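import Cfsg.Agent.Lib.H6T.NA
import Cfsg.Agent.Lib.Regular

/-! # Fitting height and fixed points, part 5: an abelian critical subgroup -/

set_option autoImplicit false
set_option linter.unusedSectionVars false

namespace CfsgLib.H6T

open Module Subgroup Polynomial CfsgLib.H9 CfsgLib.Fpf Cfsg
open scoped commutatorElement

universe u v w

section grp
variable {Γ : Type w} [Group Γ] [Finite Γ]

theorem exists_not_mem_of_relIndex {H : Subgroup Γ} {n : ℕ} (hn : 2 ≤ n) (B : Fin n → Subgroup Γ)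
    (h : ∀ i, n ≤ (B i).relIndex H) : ∃ e ∈ H, ∀ i, e ∉ B i := by
  classical
  by_contra hcon
  push Not at hcon
  have := Fintype.ofFinite Γ
  let s : Subgroup Γ → Finset Γ := fun K => Finset.univ.filter (· ∈ K)
  have hs : ∀ K : Subgroup Γ, (s K).card = Nat.card K := fun K => by
    rw [Nat.card_eq_fintype_card, Fintype.card_subtype]
  have h1 : (s H).erase 1 ⊆ Finset.univ.biUnion fun i => (s (B i ⊓ H)).erase 1 := by
    intro x hx
    simp only [s, Finset.mem_erase, Finset.mem_filter, Finset.mem_univ, true_and,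
      Finset.mem_biUnion] at hx ⊢
    obtain ⟨i, hi⟩ := hcon x hx.2
    exact ⟨i, hx.1, hi, hx.2⟩
  have h2 := (Finset.card_le_card h1).trans Finset.card_biUnion_le
  have h3 : ∀ K : Subgroup Γ, ((s K).erase 1).card + 1 = Nat.card K := fun K => by
    rw [Finset.card_erase_add_one (by simp [s]), hs]
  have h4 : ∀ i, n * ((s (B i ⊓ H)).erase 1).card + n ≤ Nat.card H := fun i => by
    rw [← mul_add_one, h3, ← card_inf_mul_relIndex (B i) H, mul_comm]
    exact Nat.mul_le_mul_left _ (h i)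
  have h5 := Finset.sum_le_sum fun i (_ : i ∈ Finset.univ) => h4 i
  rw [Finset.sum_add_distrib, ← Finset.mul_sum, Finset.sum_const, Finset.sum_const,
    Finset.card_univ, Fintype.card_fin, smul_eq_mul, smul_eq_mul, ← h3 H] at h5
  nlinarith

theorem norm_prod {k : Type*} [CommMonoid k] {Q : Subgroup Γ} {φ : Γ → k} (h1 : φ 1 = 1)
    (hm : ∀ x ∈ Q, ∀ y ∈ Q, φ (x * y) = φ x * φ y) {a c : Γ} (ha : a ∈ normalizer (Q : Set Γ))
    (hc : c ∈ Q) (n : ℕ) : (c * a) ^ n * (a ^ n)⁻¹ ∈ Q ∧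
      φ ((c * a) ^ n * (a ^ n)⁻¹) = ∏ i ∈ Finset.range n, φ (a ^ i * c * (a ^ i)⁻¹) := by
  induction n with
  | zero => simpa using h1
  | succ n ih =>
    have e : (c * a) ^ (n + 1) * (a ^ (n + 1))⁻¹ =
        ((c * a) ^ n * (a ^ n)⁻¹) * (a ^ n * c * (a ^ n)⁻¹) := by
      rw [pow_succ, pow_succ]; group
    have h2 := conj_mem_of_mem_normalizer (pow_mem ha n) hc
    rw [e, hm _ ih.1 _ h2, ih.2, Finset.prod_range_succ]
    exact ⟨mul_mem ih.1 h2, rfl⟩

theorem fpf_of_gen {H L : Subgroup Γ} {a : Γ} (hp : (orderOf a).Prime)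
    (haH : a ∈ normalizer (H : Set Γ)) (haL : a ∈ normalizer (L : Set Γ)) (hLH : L ≤ H)
    (hc : ⁅H, H⁆ ≤ L) (hcop : (orderOf a).Coprime (Nat.card H)) (hgen : ⁅H, zpowers a⁆ = H)
    {b : Γ} (hb : b ∈ zpowers a) (hb1 : b ≠ 1) {g : Γ} (hg : g ∈ H) (h : ⁅g, b⁆ ∈ L) : g ∈ L :=
  Cop.mem_of_mem_commutator_sup_of_commutator_mem (zpowers_le.2 haH) (zpowers_le.2 haL) hLH hc
    (by rwa [Nat.card_zpowers]) (mem_sup_left (hgen.ge hg)) fun c hc =>
      commutator_mem_of_mem_zpowers (zpowers_le.2 haL hb) h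
        ((zpowers_eq_of_prime hp hb hb1).ge hc)

theorem succ_le_relIndex_of_gen {H L : Subgroup Γ} {a : Γ} (hp : (orderOf a).Prime)
    (haH : a ∈ normalizer (H : Set Γ)) (haL : a ∈ normalizer (L : Set Γ)) (hLH : L < H)
    (hc : ⁅H, H⁆ ≤ L) (hcop : (orderOf a).Coprime (Nat.card H)) (hgen : ⁅H, zpowers a⁆ = H) :
    orderOf a + 1 ≤ L.relIndex H := by
  have := Fact.mk hp
  have h1 := prime_dvd_relIndex_sub_one (p := orderOf a) (A := zpowers a)
    (IsPGroup.of_card (n := 1) (by rw [Nat.card_zpowers, pow_one])) (zpowers_le.2 haH)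
    (zpowers_le.2 haL) hLH.le (Cop.le_normalizer_of_commutator_le hc hLH.le) fun g hg h =>
      fpf_of_gen hp haH haL hLH.le hc hcop hgen (mem_zpowers a)
        (fun h => hp.ne_one (orderOf_eq_one_iff.2 h)) hg (h a (mem_zpowers a))
  have h2 : L.relIndex H ≠ 1 := fun h => hLH.not_ge (relIndex_eq_one.1 h)
  have h3 : L.relIndex H ≠ 0 := index_ne_zero_of_finite
  have := Nat.le_of_dvd (by omega) h1
  omega

theorem exists_good {H L : Subgroup Γ} {a : Γ} (hp : (orderOf a).Prime)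
    (haH : a ∈ normalizer (H : Set Γ)) (haL : a ∈ normalizer (L : Set Γ)) (hLH : L < H)
    (hc : ⁅H, H⁆ ≤ L) (hcop : (orderOf a).Coprime (Nat.card H)) (hgen : ⁅H, zpowers a⁆ = H)
    {x : Γ} (hxH : x ∈ normalizer (H : Set Γ)) (hxa : Commute x a)
    (hx : (orderOf x).Coprime (orderOf a)) {e₀ : Γ} (he₀ : e₀ ∈ H) (he₀L : ⁅e₀, x⁆ ∉ L) :
    ∃ e ∈ H, e ∉ L ∧ ∀ i < orderOf a, ⁅e, x * a ^ i⁆ ∉ L := by
  have hHL := Cop.le_normalizer_of_commutator_le hc hLH.le
  obtain ⟨e, he, h⟩ := exists_not_mem_of_relIndex (H := H) (n := orderOf a + 1)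
    (by have := hp.two_le; omega)
    (Fin.cons L fun i : Fin (orderOf a) => H ⊓ CommCalc.relCent L {x * a ^ (i : ℕ)}) fun i => by
      refine Fin.cases (succ_le_relIndex_of_gen hp haH haL hLH hc hcop hgen) (fun i => ?_) i
      rw [Fin.cons_succ]
      have hy : x * a ^ (i : ℕ) ∈ normalizer (H : Set Γ) := mul_mem hxH (pow_mem haH _)
      have hya : Commute a (x * a ^ (i : ℕ)) := hxa.symm.mul_right ((Commute.refl a).pow_right _)
      refine succ_le_relIndex_of_gen hp haH (mem_normalizer_of_conj_mem fun g hg => ?_)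
        (lt_of_le_of_ne inf_le_left fun h => he₀L ?_) (fun g hg => ?_) hcop hgen
      · have h1 := conj_mem_of_mem_normalizer haH hg.1
        refine ⟨h1, hHL h1, fun t ht => ?_⟩
        rw [Set.mem_singleton_iff.1 ht]
        have h2 := conj_mem_of_mem_normalizer haL (hg.2.2 _ rfl)
        rwa [conjugate_commutatorElement, hya.eq, mul_inv_cancel_right] at h2
      · refine commutator_mem_of_mem_zpowers (mem_normalizer_of_conj_mem fun l hl => ?_)
          ((h.ge he₀).2.2 _ rfl) (mem_zpowers_mul_of_coprime (hxa.pow_right _)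
            (hx.coprime_dvd_right (orderOf_pow_dvd _)))
        have h1 := mul_mem hl ((h.ge (inv_mem (hLH.le hl))).2.2 _ rfl)
        rwa [commutatorElement_def, inv_inv, ← mul_assoc, ← mul_assoc, ← mul_assoc, mul_inv_cancel,
          one_mul] at h1
      · have h1 := hLH.le (hc hg)
        refine ⟨h1, hHL h1, fun t ht => hc ?_⟩
        rw [Set.mem_singleton_iff.1 ht]
        exact Cop.commutator_le_left_of_le_normalizer (Cop.le_normalizer_commutator
          (zpowers_le.2 hy) (zpowers_le.2 hy)) (commutator_mem_commutator hg (mem_zpowers _))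
  refine ⟨e, he, h 0, fun i hi h1 => h (Fin.succ ⟨i, hi⟩) ?_⟩
  rw [Fin.cons_succ]
  exact ⟨he, hHL he, fun t ht => by rw [Set.mem_singleton_iff.1 ht]; exact h1⟩

end grp

variable {k : Type u} [Field k] {V : Type v} [AddCommGroup V] [Module k V]
variable {Γ : Type w} [Group Γ] [Finite Γ] {ρ : Γ →* Module.End k V}

theorem normOp_eq_zero_of_eigen {K : Subgroup Γ} {h : Γ} (hh : h ∈ K) {w : V} {c : k}
    (hw : ρ h w = c • w) (hc : c ≠ 1) : normOp ρ K w = 0 := by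
  have h4 := sub_mem_ker_normOp (ρ := ρ) hh w
  rw [hw] at h4
  exact LinearMap.mem_ker.1 ((Submodule.smul_mem_iff _ (sub_ne_zero.2 hc)).1
    (by rwa [sub_smul, one_smul]))

theorem mod1_frob {K : Subgroup Γ} {a d : Γ} (hp : (orderOf a).Prime)
    (haK : a ∈ normalizer (K : Set Γ))
    (hf : K ⊓ centralizer ((zpowers a : Subgroup Γ) : Set Γ) = ⊥) (hK : (Nat.card K : k) ≠ 0)
    (hd : (orderOf d : k) ≠ 0) (had : Commute a d) (hdK : d ∈ centralizer (K : Set Γ))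
    (h : LinearMap.ker (normOp ρ K) ⊓ LinearMap.ker (normOp ρ (zpowers d)) ≠ ⊥) :
    Mod1 ρ K a d True := by
  refine mod1_of (Z := ⊥) hK (by simp) hd haK (mem_normalizer_bot _) had
    (centralizer_le_normalizer _ hdK) (mem_normalizer_bot _) (fun x _ => mem_normalizer_bot x)
    (Cop.commutator_eq_bot_iff_le_centralizer'.2 (zpowers_le.2 hdK)).le ?_
  by_contra hcon
  push Not at hcon
  exact h (frob_eq_bot hp haK hf hK (fun z hz => stab_inf ⟨stab_ker_normOp (le_normalizer hz),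
      stab_ker_normOp (mem_normalizer_zpowers (hdK z hz))⟩)
    (stab_inf ⟨stab_ker_normOp haK, stab_ker_normOp (mem_normalizer_zpowers had)⟩)
    (fun v hv => hv.1) fun v hv => hcon v (fun z hz => by rw [mem_bot.1 hz]; simp) hv.1 hv.2)

theorem stab_weight_of_comm {Q : Subgroup Γ} {μ : Γ → k} {y : Γ}
    (h : ∀ z ∈ Q, ⁅z⁻¹, y⁻¹⁆ ∈ Q ∧ μ ⁅z⁻¹, y⁻¹⁆ = 1) : y ∈ stabSub ρ (weightSpace ρ Q μ) :=
  fun v hv z hz => by
    rw [rho_comm_of_fix (by rw [hv _ (h z hz).1, (h z hz).2, one_smul]), hv z hz, map_smul]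

namespace Crit

variable {N T H M : Subgroup Γ} {a : Γ} {p q : ℕ} (C : Crit k N T H M a p q)
include C

variable [IsAlgClosed k] [FiniteDimensional k V]

theorem ab (hρ : Function.Injective ρ) (hab : N ≤ centralizer (N : Set Γ)) {J₁ : Subgroup Γ}
    (hJ : J₁ ≤ ⁅M, H⁆ ⊓ centralizer ((zpowers a : Subgroup Γ) : Set Γ)) (hJ0 : J₁ ≠ ⊥)
    (hcase : ⁅M, H⁆ ⊓ centralizer ((zpowers a : Subgroup Γ) : Set Γ) ≤ J₁ ∨
      ∃ X : Subgroup Γ, X ≤ normalizer (H : Set Γ) ∧ X ≤ normalizer (J₁ : Set Γ) ∧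
        X ≤ normalizer (M : Set Γ) ∧
        X ≤ centralizer ((zpowers a : Subgroup Γ) : Set Γ) ∧ (Nat.card X).Coprime (orderOf a) ∧
        H ≤ ⁅H, X⁆ ⊔ H ⊓ centralizer (N : Set Γ) ∧
        ⁅⁅M, H⁆ ⊓ centralizer ((zpowers a : Subgroup Γ) : Set Γ), X⁆ ≤ J₁) :
    ∃ d ∈ J₁, Mod1 ρ ⁅N, zpowers a⁆ a d True := by
  have := Fact.mk C.pp
  have := Fact.mk C.qq
  by_contra hcon
  push Not at hcon
  set A := zpowers a with hA
  have hAN : A ≤ normalizer (N : Set Γ) := zpowers_le.2 C.aN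
  have hAH : A ≤ normalizer (H : Set Γ) := zpowers_le.2 C.aH
  have hH'N : ⁅N, A⁆ ≤ N := Cop.commutator_le_left_of_le_normalizer hAN
  have hQN : ⁅M, H⁆ ≤ N := (Cop.commutator_le_left_of_le_normalizer C.HM).trans C.MN
  have hQH : ⁅⁅M, H⁆, H⁆ = ⁅M, H⁆ :=
    Cop.commutator_commutator_eq C.HM (C.copHN.coprime_dvd_right (card_dvd_of_le C.MN))
  have hAQ := Cop.le_normalizer_commutator (zpowers_le.2 C.aM) hAH
  have hHQ := normalizer_commutator_ge_right M H
  set Q := ⁅M, H⁆ with hQ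
  have hJN : J₁ ≤ N := (hJ.trans inf_le_left).trans hQN
  have W1 : ∀ (ν : Γ → k) (w : V), w ∈ weightSpace ρ Q ν → w ≠ 0 → ∀ d ∈ J₁, ν d ≠ 1 →
      ∀ h ∈ ⁅Q, A⁆, ν h = 1 := by
    intro ν w hw hw0 d hd hd1 h hh
    by_contra hh1
    refine hcon d hd (mod1_frob C.ap (normalizer_commutator_ge_right _ _ (mem_zpowers a))
      (Cop.commutator_inf_centralizer_eq_bot hAN C.copA
        ⟨⟨fun x y => Subtype.ext (hab y.2 x x.2)⟩⟩) (C.sub_ne hH'N)
      (by rw [← Nat.card_zpowers]; exact C.sub_ne (zpowers_le.2 (hJN hd)))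
      (commute_of_mem_centralizer_zpowers (hJ hd).2).symm
      (centralizer_le hH'N (hab (hJN hd))) ((Submodule.ne_bot_iff _).2 ⟨w, ⟨?_, ?_⟩, hw0⟩))
    · exact normOp_eq_zero_of_eigen (commutator_mono hQN le_rfl hh)
        (hw h (Cop.commutator_le_left_of_le_normalizer hAQ hh)) hh1
    · exact normOp_eq_zero_of_eigen (mem_zpowers d) (hw d (hJ hd).1) hd1
  obtain ⟨⟨d₀, hd₀⟩, hd₀1⟩ := (ne_bot_iff_exists_ne_one).1 hJ0
  have hd₀1' : d₀ ≠ 1 := fun h => hd₀1 (Subtype.ext h)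
  have hd₀Q := (hJ hd₀).1
  obtain ⟨U₁, μ, h1, hU₁, -, h2⟩ := exists_central_weight (ρ := ρ) (le_refl Q)
    (ker_normOp_ne_bot (H := zpowers d₀) ⟨_, mem_zpowers _, fun h => hd₀1' (hρ (by rw [h, map_one]))⟩)
    (fun g hg => stab_ker_normOp (mem_normalizer_zpowers (hab (hJN hd₀) g (hQN hg))))
    ((commutator_eq_bot_iff_le_centralizer.2 ((hQN.trans hab).trans (centralizer_le hQN))).le.trans
      bot_le)
  obtain ⟨v, hv, hv0⟩ := (Submodule.ne_bot_iff U₁).1 hU₁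
  have hvμ := h2 hv
  have hμ : μ d₀ ≠ 1 := fun h => hv0 (eq_zero_of_mem_ker_normOp
    (C.sub_ne (zpowers_le.2 (hJN hd₀))) (h1 hv)
    (fixed_zpowers (by rw [hvμ _ hd₀Q, h, one_smul])))
  have hμ1 : μ 1 = 1 := smul_left_injective k hv0 (by
    change μ 1 • v = (1 : k) • v
    rw [← hvμ 1 (one_mem _), map_one, one_smul, Module.End.one_apply])
  have hcA : ∀ z ∈ Q, ⁅z⁻¹, a⁻¹⁆ ∈ ⁅Q, A⁆ := fun z hz =>
    commutator_mem_commutator (inv_mem hz) (inv_mem (mem_zpowers a))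
  have haW : a ∈ stabSub ρ (weightSpace ρ Q μ) := stab_weight_of_comm fun z hz =>
    ⟨Cop.commutator_le_left_of_le_normalizer hAQ (hcA z hz), W1 μ v hvμ hv0 d₀ hd₀ hμ _ (hcA z hz)⟩
  have hlt : H ⊓ stabSub ρ (weightSpace ρ Q μ) < H := lt_of_le_of_ne inf_le_left fun h =>
    hμ (smul_left_injective k hv0 ((hvμ _ hd₀Q).symm.trans ((commutator_le_fixSub_weight
      (h.ge.trans inf_le_right) (hQH.ge hd₀Q) v hvμ).trans (one_smul k v).symm)))
  have hL := Regular.sup_commutator_lt C.qH hlt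
  have haL : a ∈ normalizer ((H ⊓ stabSub ρ (weightSpace ρ Q μ) ⊔ ⁅H, H⁆ : Subgroup Γ) : Set Γ) :=
    zpowers_le.1 (le_normalizer_sup (zpowers_le.2 (inf_normalizer_le_normalizer_inf
      ⟨C.aH, le_normalizer haW⟩)) (Cop.le_normalizer_commutator hAH hAH))
  set L := H ⊓ stabSub ρ (weightSpace ρ Q μ) ⊔ ⁅H, H⁆ with hLdef
  have hfp := fun b hb hb1 g hg => fpf_of_gen C.ap C.aH haL hL.le le_sup_right C.copH C.gen
    (b := b) hb hb1 (g := g) hg
  have W2 : ∀ u ∈ H, u ∉ L → ∀ j ∈ J₁, μ (u * j * u⁻¹) = 1 := by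
    intro u hu huL j hj
    by_contra hne
    have h3 := W1 _ _ (rho_mem_weightSpace_conj hvμ (inv_mem (hHQ hu)))
      (fun h => hv0 (rho_injective ρ _ (h.trans (map_zero _).symm))) j hj (by rwa [inv_inv])
    refine huL (hfp a (mem_zpowers a) (fun h => C.ap.ne_one (orderOf_eq_one_iff.2 h)) u hu
      (mem_sup_left ⟨C.gen.le (commutator_mem_commutator hu (mem_zpowers a)), ?_⟩))
    refine (stabSub ρ _).mul_mem (stab_weight_of_comm fun z hz => ?_) (inv_mem haW)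
    have h4 := hcA _ (conj_mem_of_mem_normalizer' (hHQ hu) hz)
    have h5 := h3 _ h4
    rw [show ⁅z⁻¹, (u * a * u⁻¹)⁻¹⁆ = u * ⁅(u⁻¹ * z * u)⁻¹, a⁻¹⁆ * u⁻¹ by
      simp only [commutatorElement_def]; group]
    rw [inv_inv] at h5
    exact ⟨conj_mem_of_mem_normalizer (hHQ hu) (Cop.commutator_le_left_of_le_normalizer hAQ h4), h5⟩
  have key : ∀ e ∈ H, ∀ y ∈ normalizer (Q : Set Γ),
      (e⁻¹ * d₀ * e * a) ^ orderOf a ∈ Q ⊓ centralizer (A : Set Γ) ∧
      μ (e * y * (e⁻¹ * d₀ * e * a) ^ orderOf a * (e * y)⁻¹) = ∏ i ∈ Finset.range (orderOf a),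
        μ (⁅e, y * a ^ i⁆ * (y * d₀ * y⁻¹) * ⁅e, y * a ^ i⁆⁻¹) := by
    intro e he y hy
    have hc := conj_mem_of_mem_normalizer' (hHQ he) hd₀Q
    have hey := mul_mem (hHQ he) hy
    obtain ⟨h3, h4⟩ := norm_prod (Q := Q) (φ := fun z => μ (e * y * z * (e * y)⁻¹)) (by simpa using hμ1)
      (fun x hx z hz => by
        rw [← weight_mul hvμ hv0 (conj_mem_of_mem_normalizer hey hx)
          (conj_mem_of_mem_normalizer hey hz)]
        congr 1; group) (hAQ (mem_zpowers a)) hc (orderOf a)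
    rw [pow_orderOf_eq_one, inv_one, mul_one] at h3 h4
    refine ⟨⟨h3, mem_centralizer_zpowers_iff.2 ?_⟩, h4.trans (Finset.prod_congr rfl fun i _ => ?_)⟩
    · have h5 : Commute (e⁻¹ * d₀ * e) ((e⁻¹ * d₀ * e * a) ^ orderOf a) :=
        hab (hQN h3) _ (hQN hc)
      have h6 := h5.inv_left.mul_left ((Commute.refl (e⁻¹ * d₀ * e * a)).pow_right (orderOf a))
      rwa [inv_mul_cancel_left] at h6
    · have h5 : a ^ i * d₀ * (a ^ i)⁻¹ = d₀ := by
        rw [((commute_of_mem_centralizer_zpowers (hJ hd₀).2).symm.pow_left i).eq,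
          mul_inv_cancel_right]
      congr 1
      conv_rhs => rw [← h5]
      simp only [commutatorElement_def]; group
  have key1 : ∀ e ∈ H, e ∉ L → μ (e * (e⁻¹ * d₀ * e * a) ^ orderOf a * e⁻¹) = μ d₀ := by
    intro e he heL
    have h3 := (key e he 1 (one_mem _)).2
    rw [mul_one, Finset.prod_eq_single 0] at h3
    · simpa using h3
    · intro i hi hi0
      rw [one_mul, one_mul, inv_one, mul_one]
      refine W2 _ (C.gen.le (commutator_mem_commutator he (pow_mem (mem_zpowers a) i)))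
        (fun h => heL (hfp _ (pow_mem (mem_zpowers a) i) ?_ e he h)) _ hd₀
      exact pow_ne_one_of_lt_orderOf hi0 (Finset.mem_range.1 hi)
    · intro h
      exact absurd (Finset.mem_range.2 C.ap.pos) h
  rcases hcase with h | ⟨X, hXH, hXJ, hXM, hXa, hXc, hgen, hJX⟩
  · obtain ⟨e, he, heL⟩ := SetLike.exists_of_lt hL
    exact hμ ((key1 e he heL).symm.trans (W2 e he heL _ (h (key e he 1 (one_mem _)).1)))
  obtain ⟨e₀, he₀, x, hx, hxL⟩ : ∃ e ∈ H, ∃ x ∈ X, ⁅e, x⁆ ∉ L := by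
    by_contra h
    push Not at h
    refine hL.not_ge (hgen.trans (sup_le (commutator_le.2 h) fun g hg => mem_sup_left ⟨hg.1,
      stab_weight_of_comm fun z hz => ?_⟩))
    rw [commutatorElement_eq_one_iff_mul_comm.2 ((centralizer (N : Set Γ)).inv_mem hg.2 _ (inv_mem (hQN hz)))]
    exact ⟨one_mem _, hμ1⟩
  obtain ⟨e, he, heL, hei⟩ := exists_good C.ap C.aH haL hL le_sup_right C.copH C.gen (hXH hx)
    (commute_of_mem_centralizer_zpowers (hXa hx))
    (hXc.coprime_dvd_left (orderOf_dvd_natCard X hx)) he₀ hxL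
  have hxQ := Cop.le_normalizer_commutator hXM hXH hx
  obtain ⟨h3, h4⟩ := key e he x hxQ
  rw [Finset.prod_eq_one fun i hi => W2 _ (Cop.commutator_le_left_of_le_normalizer
    (zpowers_le.2 (mul_mem (hXH hx) (pow_mem C.aH i))) (commutator_mem_commutator he (mem_zpowers _)))
    (hei i (Finset.mem_range.1 hi)) _ (conj_mem_of_mem_normalizer (hXJ hx) hd₀)] at h4
  have h5 := key1 e he heL
  generalize (e⁻¹ * d₀ * e * a) ^ orderOf a = j at h3 h4 h5
  have h6 : ⁅x, j⁆ ∈ J₁ := hJX (comm_mem_iff.1 (commutator_mem_commutator h3 hx))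
  rw [show e * x * j * (e * x)⁻¹ = e * ⁅x, j⁆ * e⁻¹ * (e * j * e⁻¹) by
    simp only [commutatorElement_def]; group,
    weight_mul hvμ hv0 (conj_mem_of_mem_normalizer (hHQ he) (hJ h6).1)
      (conj_mem_of_mem_normalizer (hHQ he) h3.1), W2 e he heL _ h6, one_mul, h5] at h4
  exact hμ h4

end Crit

end CfsgLib.H6T
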