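import Cfsg.Agent.Lib.H9Exc
import Cfsg.Agent.Lib.H8FrobMod
import Cfsg.Agent.Lib.H9Gross

/-! # Fitting height and fixed points, part 1: module lemmas -/

set_option autoImplicit false
set_option linter.unusedSectionVars false

namespace CfsgLib.H6T

open Module Subgroup Polynomial CfsgLib.H9 CfsgLib.Fpf Cfsg
open scoped commutatorElement

universe u v w

variable {k : Type u} [Field k] {V : Type v} [AddCommGroup V] [Module k V]
variable {Γ : Type w} [Group Γ] [Finite Γ] {ρ : Γ →* Module.End k V}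

/-- `M` is the range of an operator with coefficients in the prime ring -/
def Rat (ρ : Γ →* Module.End k V) (M : Submodule k V) : Prop :=
  ∃ E ∈ Subring.closure (Set.range ρ), LinearMap.range E = M

theorem normOp_mem_closure (H : Subgroup Γ) : normOp ρ H ∈ Subring.closure (Set.range ρ) := by
  classical
  have := Fintype.ofFinite H
  rw [normOp_eq]
  exact Subring.sum_mem _ fun h _ => Subring.subset_closure ⟨h, rfl⟩

theorem normOp_normOp (H : Subgroup Γ) (v : V) :
    normOp ρ H (normOp ρ H v) = (Nat.card H : k) • normOp ρ H v :=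
  normOp_apply_of_fixed fun _ hg => normOp_fixed hg v

theorem normOp_mem {H : Subgroup Γ} {U : Submodule k V} (h : H ≤ stabSub ρ U) {v : V}
    (hv : v ∈ U) : normOp ρ H v ∈ U := by
  classical
  have := Fintype.ofFinite H
  rw [normOp_eq, LinearMap.sum_apply]
  exact U.sum_mem fun g _ => h g.2 v hv

theorem normOp_comm_apply {H : Subgroup Γ} {y : Γ} (hy : y ∈ normalizer (H : Set Γ)) (v : V) :
    ρ y (normOp ρ H v) = normOp ρ H (ρ y v) :=
  congrArg (fun T : Module.End k V => T v) (rho_normOp_comm hy)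

theorem normOp_comm_normOp {H K : Subgroup Γ} (h : K ≤ normalizer (H : Set Γ)) (v : V) :
    normOp ρ K (normOp ρ H v) = normOp ρ H (normOp ρ K v) := by
  classical
  have := Fintype.ofFinite K
  rw [normOp_eq (H := K), LinearMap.sum_apply, LinearMap.sum_apply, map_sum]
  exact Finset.sum_congr rfl fun g _ => normOp_comm_apply (h g.2) v

theorem stab_ker_normOp {H : Subgroup Γ} :
    normalizer (H : Set Γ) ≤ stabSub ρ (LinearMap.ker (normOp ρ H)) :=
  fun _ hy => ker_normOp_invariant hy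

theorem stab_fixSpace {Z : Subgroup Γ} : normalizer (Z : Set Γ) ≤ stabSub ρ (fixSpace ρ Z) := by
  intro y hy v hv z hz
  rw [← rho_mul_apply, show z * y = y * (y⁻¹ * z * y) by group, rho_mul_apply,
    hv _ (conj_mem_of_mem_normalizer' hy hz)]

theorem stab_inf {U W : Submodule k V} : stabSub ρ U ⊓ stabSub ρ W ≤ stabSub ρ (U ⊓ W) :=
  fun _ hy v hv => ⟨hy.1 v hv.1, hy.2 v hv.2⟩

theorem normOp_eq_zero_of_le {H K : Subgroup Γ} (hKH : K ≤ H) (hK : (Nat.card K : k) ≠ 0) {v : V}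
    (hv : normOp ρ K v = 0) : normOp ρ H v = 0 := by
  classical
  have := Fintype.ofFinite K
  have h1 : normOp ρ H (normOp ρ K v) = (Nat.card K : k) • normOp ρ H v := by
    have h2 : ∀ g : K, normOp ρ H (ρ g v) = normOp ρ H v := fun g =>
      congrArg (fun T : Module.End k V => T v) (normOp_mul_rho (ρ := ρ) (hKH g.2))
    rw [normOp_eq (H := K), LinearMap.sum_apply, map_sum, Finset.sum_congr rfl fun g _ => h2 g,
      Finset.sum_const, Finset.card_univ, Nat.card_eq_fintype_card, Nat.cast_smul_eq_nsmul]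
  rw [hv, map_zero] at h1
  exact (smul_eq_zero.1 h1.symm).resolve_left hK

theorem rat_of_smul {M : Submodule k V} {E : Module.End k V}
    (hE : E ∈ Subring.closure (Set.range ρ)) (h1 : ∀ v, E v ∈ M) {c : k} (hc : c ≠ 0)
    (h2 : ∀ v ∈ M, E v = c • v) : Rat ρ M := by
  refine ⟨E, hE, le_antisymm (by rintro _ ⟨v, rfl⟩; exact h1 v) fun v hv => ⟨c⁻¹ • v, ?_⟩⟩
  rw [map_smul, h2 v hv, smul_smul, inv_mul_cancel₀ hc, one_smul]

theorem coprj_apply (H : Subgroup Γ) (v : V) :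
    ((Nat.card H : Module.End k V) - normOp ρ H) v = (Nat.card H : k) • v - normOp ρ H v := by
  rw [LinearMap.sub_apply, Module.End.natCast_apply, Nat.cast_smul_eq_nsmul]

theorem normOp_coprj (H : Subgroup Γ) (v : V) :
    normOp ρ H ((Nat.card H : k) • v - normOp ρ H v) = 0 := by
  rw [map_sub, map_smul, normOp_normOp, sub_self]

theorem rat_ker {H : Subgroup Γ} (hH : (Nat.card H : k) ≠ 0) :
    Rat ρ (LinearMap.ker (normOp ρ H)) :=
  rat_of_smul (E := (Nat.card H : Module.End k V) - normOp ρ H)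
    (sub_mem (natCast_mem _ _) (normOp_mem_closure H))
    (fun v => by rw [coprj_apply]; exact normOp_coprj H v) hH
    fun v hv => by rw [coprj_apply, LinearMap.mem_ker.1 hv, sub_zero]

/-- the module part of the first state -/
def Mod1 (ρ : Γ →* Module.End k V) (H : Subgroup Γ) (a d : Γ) (B : Prop) : Prop :=
  ∃ M : Submodule k V, Rat ρ M ∧ H ≤ stabSub ρ M ∧ a ∈ stabSub ρ M ∧ d ∈ stabSub ρ M ∧
    (∀ v ∈ M, (∀ h ∈ H, ρ h v = v) → v = 0) ∧ (B → ∀ v ∈ M, ρ d v = v → v = 0) ∧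
    ∃ v ∈ M, normOp ρ (zpowers a) v ≠ 0

theorem Mod1.mono {H : Subgroup Γ} {a d : Γ} {B B' : Prop} (h : Mod1 ρ H a d B) (hB : B' → B) :
    Mod1 ρ H a d B' := by
  obtain ⟨M, h1, h2, h3, h4, h5, h6, h7⟩ := h
  exact ⟨M, h1, h2, h3, h4, h5, fun b => h6 (hB b), h7⟩

theorem fixed_zpowers {d : Γ} {v : V} (h : ρ d v = v) : ∀ g ∈ zpowers d, ρ g v = v := by
  have : zpowers d ≤ fixSub ρ (Submodule.span k {v}) := zpowers_le.2 fun w hw => by
    obtain ⟨c, rfl⟩ := Submodule.mem_span_singleton.1 hw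
    rw [map_smul, h]
  exact fun g hg => this hg v (Submodule.mem_span_singleton_self v)

theorem mem_normalizer_zpowers {y d : Γ} (h : Commute y d) :
    y ∈ normalizer ((zpowers d : Subgroup Γ) : Set Γ) :=
  centralizer_le_normalizer _ (mem_centralizer_zpowers_iff.2 h.symm)

theorem mod1_one {H : Subgroup Γ} {a : Γ} (hH : (Nat.card H : k) ≠ 0)
    (haH : a ∈ normalizer (H : Set Γ))
    (hv : ∃ v, normOp ρ H v = 0 ∧ normOp ρ (zpowers a) v ≠ 0) : Mod1 ρ H a 1 False :=
  ⟨_, rat_ker hH, le_normalizer.trans stab_ker_normOp, stab_ker_normOp haH, one_mem _,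
    fun _ hv h => eq_zero_of_mem_ker_normOp hH hv h, False.elim, hv⟩

theorem mod1_of {H Z : Subgroup Γ} {a d : Γ} (hH : (Nat.card H : k) ≠ 0)
    (hZ : (Nat.card Z : k) ≠ 0) (hd : (orderOf d : k) ≠ 0) (haH : a ∈ normalizer (H : Set Γ))
    (haZ : a ∈ normalizer (Z : Set Γ)) (had : Commute a d) (hdH : d ∈ normalizer (H : Set Γ))
    (hdZ : d ∈ normalizer (Z : Set Γ)) (hHZ : H ≤ normalizer (Z : Set Γ))
    (hc : ⁅H, zpowers d⁆ ≤ Z)
    (hv : ∃ v, (∀ z ∈ Z, ρ z v = v) ∧ normOp ρ H v = 0 ∧ normOp ρ (zpowers d) v = 0 ∧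
      normOp ρ (zpowers a) v ≠ 0) : Mod1 ρ H a d True := by
  classical
  set D := zpowers d with hD
  have hD' : (Nat.card D : k) ≠ 0 := by rwa [hD, Nat.card_zpowers]
  have hDH : D ≤ normalizer (H : Set Γ) := zpowers_le.2 hdH
  have hDZ : D ≤ normalizer (Z : Set Γ) := zpowers_le.2 hdZ
  refine ⟨fixSpace ρ Z ⊓ (LinearMap.ker (normOp ρ H) ⊓ LinearMap.ker (normOp ρ D)), ?_, ?_, ?_, ?_,
    fun v hv h => eq_zero_of_mem_ker_normOp hH hv.2.1 h,
    fun _ v hv h => eq_zero_of_mem_ker_normOp hD' hv.2.2 (fixed_zpowers h), ?_⟩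
  · refine rat_of_smul (E := ((Nat.card H : Module.End k V) - normOp ρ H) *
      ((Nat.card D : Module.End k V) - normOp ρ D) * normOp ρ Z)
      (mul_mem (mul_mem (sub_mem (natCast_mem _ _) (normOp_mem_closure H))
        (sub_mem (natCast_mem _ _) (normOp_mem_closure D))) (normOp_mem_closure Z))
      (fun v => ?_) (mul_ne_zero (mul_ne_zero hH hD') hZ) fun v hv => ?_
    · rw [Module.End.mul_apply, Module.End.mul_apply, coprj_apply, coprj_apply]
      have h1 : normOp ρ Z v ∈ fixSpace ρ Z := fun g hg => normOp_fixed hg v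
      have h2 : (Nat.card D : k) • normOp ρ Z v - normOp ρ D (normOp ρ Z v) ∈ fixSpace ρ Z :=
        sub_mem (Submodule.smul_mem _ _ h1) (normOp_mem (hDZ.trans stab_fixSpace) h1)
      refine ⟨sub_mem (Submodule.smul_mem _ _ h2) (normOp_mem (hHZ.trans stab_fixSpace) h2),
        normOp_coprj H _, LinearMap.mem_ker.2 ?_⟩
      rw [map_sub, map_smul, normOp_comm_normOp hDH, normOp_coprj, smul_zero,
        map_zero, sub_zero]
    · rw [Module.End.mul_apply, Module.End.mul_apply, normOp_apply_of_fixed hv.1, map_smul,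
        map_smul, coprj_apply D, LinearMap.mem_ker.1 hv.2.2, sub_zero, map_smul, coprj_apply,
        LinearMap.mem_ker.1 hv.2.1, sub_zero, smul_smul, smul_smul]
      congr 1; ring
  · intro h hh v hv
    refine ⟨stab_fixSpace (hHZ hh) v hv.1, stab_ker_normOp (le_normalizer hh) v hv.2.1,
      LinearMap.mem_ker.2 ?_⟩
    have := Fintype.ofFinite D
    have h1 := LinearMap.mem_ker.1 hv.2.2
    rw [normOp_eq, LinearMap.sum_apply]
    rw [normOp_eq, LinearMap.sum_apply] at h1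
    rw [← map_zero (ρ h), ← h1, map_sum]
    refine Finset.sum_congr rfl fun g _ => ?_
    rw [← rho_mul_apply, show (g : Γ) * h = h * (⁅h⁻¹, (g : Γ)⁆ * g) by
      simp only [commutatorElement_def]; group, rho_mul_apply, rho_mul_apply,
      stab_fixSpace (hDZ g.2) v hv.1 _ (hc (commutator_mem_commutator (inv_mem hh) g.2))]
  · exact stab_inf ⟨stab_fixSpace haZ, stab_inf ⟨stab_ker_normOp haH,
      stab_ker_normOp (mem_normalizer_zpowers had)⟩⟩
  · exact stab_inf ⟨stab_fixSpace hdZ, stab_inf ⟨stab_ker_normOp hdH,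
      stab_ker_normOp (le_normalizer (mem_zpowers d))⟩⟩
  · obtain ⟨v, h1, h2, h3, h4⟩ := hv
    exact ⟨v, ⟨h1, h2, h3⟩, h4⟩

theorem zpowers_eq_of_prime {a b : Γ} (hp : (orderOf a).Prime) (hb : b ∈ zpowers a) (h1 : b ≠ 1) :
    zpowers b = zpowers a := by
  refine eq_of_le_of_card_le (zpowers_le.2 hb) (Nat.le_of_eq ?_)
  rcases (Nat.dvd_prime hp).1 (orderOf_dvd_of_mem_zpowers hb) with h | h
  · exact absurd (orderOf_eq_one_iff.1 h) h1
  · rw [Nat.card_zpowers, Nat.card_zpowers, h]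

/-- Frobenius groups: the complement has fixed vectors -/
theorem frob_eq_bot {K : Subgroup Γ} {a : Γ} (hp : (orderOf a).Prime)
    (haK : a ∈ normalizer (K : Set Γ))
    (hf : K ⊓ centralizer ((zpowers a : Subgroup Γ) : Set Γ) = ⊥) (hK : (Nat.card K : k) ≠ 0)
    {U : Submodule k V} (hKU : K ≤ stabSub ρ U) (haU : a ∈ stabSub ρ U)
    (hU0 : ∀ v ∈ U, normOp ρ K v = 0) (h0 : ∀ v ∈ U, normOp ρ (zpowers a) v = 0) : U = ⊥ := by
  have hS : H8Fpf.Semi K (zpowers a) := ⟨zpowers_le.2 haK, fun b hb h1 f hf' h =>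
    mem_bot.1 (hf.le ⟨hf', by
      rw [← zpowers_eq_of_prime hp hb h1]; exact mem_centralizer_zpowers_iff.2 h⟩)⟩
  rw [eq_bot_iff]
  intro v hv
  exact (smul_eq_zero.1 (hS.card_smul_eq_zero (ρ := ρ) (v := v)
    (fun b hb => hU0 _ (zpowers_le.2 haU hb v hv)) fun f hf => h0 _ (hKU hf v hv))).resolve_left hK

theorem proj_normOp {a : Γ} (hp : (orderOf a).Prime) {U : Submodule k V} {e : Module.End k V}
    (he1 : ∀ v ∈ U, e v = v) (he0 : ∀ y ∈ zpowers a, y ∉ stabSub ρ U → ∀ v ∈ U, e (ρ y v) = 0)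
    (ha : a ∉ stabSub ρ U) {v : V} (hv : v ∈ U) : e (normOp ρ (zpowers a) v) = v := by
  classical
  have := Fintype.ofFinite (zpowers a)
  rw [normOp_eq, LinearMap.sum_apply, map_sum, Finset.sum_eq_single 1]
  · rw [OneMemClass.coe_one, map_one, Module.End.one_apply, he1 v hv]
  · intro b _ hb
    refine he0 b b.2 (fun h => ha ?_) v hv
    exact zpowers_le.2 h ((zpowers_eq_of_prime hp b.2 (by simpa using hb)).ge (mem_zpowers a))
  · simp

variable {Q R : Subgroup Γ} {ψ : Γ → k} {U : Submodule k V}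

/-- an element commuting with `a` and with `C_Q(a)` fixes an `a`-invariant component -/
theorem stab_lemma (P : Pack ρ Q R ψ U) {A : Subgroup Γ} (hAQ : A ≤ normalizer (Q : Set Γ))
    (hAU : A ≤ stabSub ρ U) (hcop : (Nat.card A).Coprime (Nat.card Q)) (hs : Group.IsSolvable Q)
    {y : Γ} (hyQ : y ∈ normalizer (Q : Set Γ)) (hyA : y ∈ normalizer (A : Set Γ))
    (hyc : y ∈ centralizer ((Q ⊓ centralizer (A : Set Γ) : Subgroup Γ) : Set Γ)) :
    y ∈ normalizer (R : Set Γ) ∧ ∀ r ∈ R, ψ (y * r * y⁻¹) = ψ r := by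
  have key : ∀ S : Subgroup Γ, S ≤ R → A ≤ normalizer (S : Set Γ) → y ∈ normalizer (S : Set Γ) →
      ∀ s ∈ S, ψ (y * s * y⁻¹) = ψ s := by
    intro S hSR hAS hyS s hs'
    have hSQ := hSR.trans P.le
    obtain ⟨u, hu, c, hc, rfl⟩ := Cop.exists_commutator_mul_centralizer hAS
      (hcop.coprime_dvd_right (card_dvd_of_le hSQ)) (Or.inr (isSolvable_of_le hs hSQ)) hs'
    have h1 : ∀ u ∈ ⁅S, A⁆, u ∈ R ∧ ψ u = 1 := fun u hu => by
      have h2 := hSR (Cop.commutator_le_left_of_le_normalizer hAS hu)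
      exact ⟨h2, (P.psi_eq_one_iff h2).2
        (pack_commutator_le_ker P hAQ hAU (commutator_mono hSR le_rfl hu)).2⟩
    have h2 := h1 _ (conj_mem_of_mem_normalizer (zpowers_le.1 (Cop.le_normalizer_commutator
      (zpowers_le.2 hyS) (zpowers_le.2 hyA))) hu)
    have h3 : c * y = y * c := hyc c ⟨hSQ hc.1, hc.2⟩
    rw [show y * (u * c) * y⁻¹ = y * u * y⁻¹ * (y * c * y⁻¹) by group, ← h3, mul_inv_cancel_right,
      P.psi_mul h2.1 (hSR hc.1), P.psi_mul (h1 u hu).1 (hSR hc.1), h2.2, (h1 u hu).2]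
  have h1 : y ∈ normalizer (R : Set Γ) := by
    refine mem_normalizer_of_conj_mem fun g hg =>
      P.nondeg _ (conj_mem_of_mem_normalizer hyQ (P.le hg)) fun h hh => ?_
    have h2 := conj_mem_of_mem_normalizer' hyQ hh
    rw [show ⁅y * g * y⁻¹, h⁆ = y * ⁅g, y⁻¹ * h * y⁆ * y⁻¹ by
      simp only [commutatorElement_def]; group,
      key ⁅Q, Q⁆ (pack_commutator_le P) (Cop.le_normalizer_commutator hAQ hAQ)
        (zpowers_le.1 (Cop.le_normalizer_commutator (zpowers_le.2 hyQ) (zpowers_le.2 hyQ))) _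
        (commutator_mem_commutator (P.le hg) h2)]
    exact (P.commutator_mem (le_normalizer h2) (P.inv _ h2) hg).2
  exact ⟨h1, key R le_rfl (pack_le_normalizer P hAQ hAU) h1⟩

end CfsgLib.H6T
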