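import Cfsg.Agent.Lib.H6T.Basic

/-! # Fitting height and fixed points, part 2: a class two group normalized by fixed points -/

set_option autoImplicit false
set_option linter.unusedSectionVars false

namespace CfsgLib.H6T

open Module Subgroup Polynomial CfsgLib.H9 CfsgLib.Fpf Cfsg
open scoped commutatorElement

universe u v w

section grp
variable {Γ : Type w} [Group Γ] [Finite Γ]

theorem right_mem_zpowers_pow {x a : Γ} (hc : Commute x a)
    (hxa : (orderOf x).Coprime (orderOf a)) {i : ℕ} (hi : i.Coprime (orderOf a)) :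
    a ∈ zpowers ((x * a) ^ i) := by
  rw [hc.mul_pow]
  exact zpowers_le.2 (mem_zpowers_mul_of_coprime' (hc.pow_pow i i)
    ((hxa.coprime_dvd_left (orderOf_pow_dvd i)).coprime_dvd_right (orderOf_pow_dvd i)))
    (mem_zpowers_pow_iff.2 hi.gcd_eq_one)

theorem left_pow_mem_zpowers_pow {x a : Γ} (hc : Commute x a)
    (hxa : (orderOf x).Coprime (orderOf a)) (i : ℕ) : x ^ i ∈ zpowers ((x * a) ^ i) := by
  rw [hc.mul_pow]
  exact mem_zpowers_mul_of_coprime (hc.pow_pow i i)
    ((hxa.coprime_dvd_left (orderOf_pow_dvd i)).coprime_dvd_right (orderOf_pow_dvd i))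

theorem exists_pow_step {K : Subgroup Γ} {t : Γ} {q : ℕ} (ht : t ∉ K) {m : ℕ}
    (hm : t ^ q ^ m ∈ K) : ∃ j, t ^ q ^ j ∉ K ∧ (t ^ q ^ j) ^ q ∈ K := by
  induction m with
  | zero => exact absurd (by simpa using hm) ht
  | succ m ih =>
    by_cases h : t ^ q ^ m ∈ K
    · exact ih h
    · exact ⟨m, h, by rwa [← pow_mul, ← pow_succ]⟩

theorem comm_mem_iff {R : Subgroup Γ} {a b : Γ} : ⁅a, b⁆ ∈ R ↔ ⁅b, a⁆ ∈ R := by
  rw [← inv_mem_iff, commutatorElement_inv]

theorem commute_of_mem_centralizer_zpowers {a x : Γ}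
    (h : x ∈ centralizer ((zpowers a : Subgroup Γ) : Set Γ)) : Commute x a :=
  (mem_centralizer_zpowers_iff.1 h).symm

end grp

variable {k : Type u} [Field k] {V : Type v} [AddCommGroup V] [Module k V]
variable {Γ : Type w} [Group Γ] [Finite Γ] {ρ : Γ →* Module.End k V}

theorem natCast_ne_zero_of_dvd {m n : ℕ} (h : m ∣ n) (hn : (n : k) ≠ 0) : (m : k) ≠ 0 := by
  obtain ⟨c, rfl⟩ := h
  exact left_ne_zero_of_mul (by rwa [Nat.cast_mul] at hn)

theorem stab_map_sub_one {U : Submodule k V} {t y : Γ} (hy : y ∈ stabSub ρ U)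
    (h : ∀ v ∈ U, ρ y (ρ t v) = ρ t (ρ y v)) : y ∈ stabSub ρ (U.map (ρ t - 1)) := by
  rintro _ ⟨v, hv, rfl⟩
  exact ⟨_, hy v hv, by simp [h v hv]⟩

theorem map_sub_one_le {U : Submodule k V} {t : Γ} (ht : t ∈ stabSub ρ U) :
    U.map (ρ t - 1) ≤ U := by
  rintro _ ⟨v, hv, rfl⟩
  exact sub_mem (ht v hv) hv

theorem mem_fixSub_of_map_sub_one {U : Submodule k V} {t : Γ} (h : U.map (ρ t - 1) = ⊥) :
    t ∈ fixSub ρ U := fun v hv => by
  have : (ρ t - 1) v = 0 := (Submodule.mem_bot k).1 (h.le ⟨v, hv, rfl⟩)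
  exact sub_eq_zero.1 this

theorem rho_comm_of_commute {x y : Γ} (h : Commute x y) (v : V) : ρ x (ρ y v) = ρ y (ρ x v) := by
  rw [← rho_mul_apply, h.eq, rho_mul_apply]

theorem rho_comm_of_fix {x y : Γ} {v : V} (h : ρ ⁅x⁻¹, y⁻¹⁆ v = v) :
    ρ x (ρ y v) = ρ y (ρ x v) := by
  conv_rhs => rw [← h]
  rw [← rho_mul_apply, ← rho_mul_apply, ← rho_mul_apply]
  congr 2
  simp only [commutatorElement_def]; group

theorem exists_scaled_geom (c : k) (n : ℕ) : ∃ g : k[X], g.Monic ∧ g.natDegree = n ∧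
    ∀ (W : Submodule k V) (T S : Module.End k V), (∀ v ∈ W, S v ∈ W) → (∀ v ∈ W, T v = c • S v) →
      ∀ v ∈ W, aeval T g v = c ^ n • (∑ i ∈ Finset.range (n + 1), S ^ i) v := by
  have hd := degree_sum_fin_lt (fun i : Fin n => c ^ (n - i))
  refine ⟨X ^ n + ∑ i : Fin n, C (c ^ (n - i)) * X ^ (i : ℕ), monic_X_pow_add hd, ?_, ?_⟩
  · rw [natDegree_add_eq_left_of_degree_lt (by rwa [degree_X_pow]), natDegree_X_pow]
  · intro W T S hS hT v hv
    have h1 : ∀ i : ℕ, (S ^ i) v ∈ W ∧ (T ^ i) v = c ^ i • (S ^ i) v := by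
      intro i
      induction i with
      | zero => simpa using hv
      | succ i ih =>
        rw [pow_succ', pow_succ', Module.End.mul_apply, Module.End.mul_apply, ih.2, map_smul,
          hT _ ih.1, smul_smul, pow_succ]
        exact ⟨hS _ ih.1, rfl⟩
    rw [map_add, map_sum, LinearMap.add_apply, LinearMap.sum_apply, Finset.sum_range_succ,
      LinearMap.add_apply, smul_add, map_pow, aeval_X, (h1 n).2, add_comm, Finset.sum_range,
      LinearMap.sum_apply, Finset.smul_sum]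
    congr 1
    refine Finset.sum_congr rfl fun i _ => ?_
    rw [map_mul, aeval_C, aeval_X_pow, Module.End.mul_apply, (h1 i).2, Module.algebraMap_end_apply,
      smul_smul, ← pow_add, Nat.sub_add_cancel i.2.le]

/-- the data of the second case after state zero -/
structure BrData (k : Type u) [Field k] (H X : Subgroup Γ) (a : Γ) (p : ℕ) : Prop where
  pp : p.Prime
  pH : IsPGroup p H
  hq : (Nat.card H : k) ≠ 0
  cl : ⁅H, H⁆ ≤ centralizer (H : Set Γ)
  ap : (orderOf a).Prime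
  aH : a ∈ normalizer (H : Set Γ)
  cop : (orderOf a).Coprime (Nat.card H)
  fix : H ⊓ centralizer ((zpowers a : Subgroup Γ) : Set Γ) ≤ ⁅H, H⁆
  XH : X ≤ normalizer (H : Set Γ)
  Xa : X ≤ centralizer ((zpowers a : Subgroup Γ) : Set Γ)
  Xc : X ≤ centralizer ((H ⊓ centralizer ((zpowers a : Subgroup Γ) : Set Γ) : Subgroup Γ) : Set Γ)
  copX : (Nat.card X).Coprime (Nat.card H)
  copXa : (Nat.card X).Coprime (orderOf a)
  gen : ⁅H, X⁆ = H

namespace BrData

variable {H X : Subgroup Γ} {a : Γ} {p : ℕ} (B : BrData k H X a p)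
include B

theorem solv : Group.IsSolvable H :=
  have := Fact.mk B.pp
  Cop.solvable_of_isPGroup B.pH

theorem copA : (Nat.card (zpowers a)).Coprime (Nat.card H) := by
  rw [Nat.card_zpowers]; exact B.cop

theorem hcl (U₀ : Submodule k V) : ∀ g ∈ H, ∀ h ∈ H, ∀ b ∈ H, ∀ v ∈ U₀,
    ρ ⁅g, h⁆ (ρ b v) = ρ b (ρ ⁅g, h⁆ v) := fun g hg h hh b hb v _ => by
  rw [← rho_mul_apply, ← rho_mul_apply, B.cl (commutator_mem_commutator hg hh) b hb]

variable {R : Subgroup Γ} {ψ : Γ → k} {U : Submodule k V}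

theorem fpf (P : Pack ρ H R ψ U) (haU : a ∈ stabSub ρ U) : ∀ g ∈ H, ⁅g, a⁆ ∈ R → g ∈ R := by
  intro g hg h
  have haR := P.mem_normalizer B.aH haU
  obtain ⟨n, hn, c, hc, rfl⟩ := Cop.exists_mul_centralizer_of_commutator_mem (zpowers_le.2 haR)
    (B.copA.coprime_dvd_right (card_dvd_of_le P.le)) (Or.inl inferInstance)
    fun b hb => commutator_mem_of_mem_zpowers haR h hb
  exact mul_mem hn (pack_commutator_le P (B.fix ⟨(H.mul_mem_cancel_left (P.le hn)).1 hg, hc⟩))

theorem stab {U₀ : Submodule k V} (P : Pack ρ H R ψ U) (hU : U = U₀ ⊓ weightSpace ρ R ψ)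
    (haU : a ∈ stabSub ρ U) (hX : X ≤ stabSub ρ U₀) : X ≤ stabSub ρ U := by
  intro x hx
  obtain ⟨h1, h2⟩ := stab_lemma P (zpowers_le.2 B.aH) (zpowers_le.2 haU) B.copA B.solv (B.XH hx)
    (centralizer_le_normalizer _ (B.Xa hx)) (B.Xc hx)
  rw [hU]
  exact stab_inf ⟨hX hx, weightSpace_invariant h1 h2⟩

variable [IsAlgClosed k] [FiniteDimensional k V]

theorem branch1 {z : Γ} (hz : z ∈ H ⊓ centralizer ((zpowers a : Subgroup Γ) : Set Γ))
    (hz1 : ρ z ≠ 1) : ∃ v, normOp ρ (zpowers z) v = 0 ∧ normOp ρ (zpowers a) v ≠ 0 := by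
  by_contra hcon
  push Not at hcon
  have hzH := B.fix hz
  obtain ⟨R, ψ, U, e, P, hU, he1, he0, -⟩ := exists_component ρ H B.hq
    (LinearMap.ker (normOp ρ (zpowers z))) (ker_normOp_ne_bot ⟨z, mem_zpowers z, hz1⟩)
    (fun g hg => stab_ker_normOp (mem_normalizer_zpowers (B.cl hzH g hg))) (B.hcl _)
  have hU0 : U ≤ LinearMap.ker (normOp ρ (zpowers z)) := hU.le.trans inf_le_left
  have hA0 : zpowers a ≤ stabSub ρ (LinearMap.ker (normOp ρ (zpowers z))) := zpowers_le.2
    (stab_ker_normOp (mem_normalizer_zpowers (commute_of_mem_centralizer_zpowers hz.2).symm))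
  obtain ⟨v, hv, hv0⟩ := (Submodule.ne_bot_iff U).1 P.ne
  have haU : a ∈ stabSub ρ U := by
    by_contra ha
    refine hv0 ?_
    rw [← proj_normOp B.ap he1 (fun y hy => he0 y (zpowers_le.2 B.aH hy) (hA0 hy)) ha hv,
      hcon v (hU0 hv), map_zero]
  have hXU := B.stab P hU haU fun x hx =>
    stab_ker_normOp (mem_normalizer_zpowers (B.Xc hx z hz).symm)
  have hHR : H ≤ R := B.gen.ge.trans (commutator_le.2 fun g hg x hx =>
    pack_commute_le P B.hq B.solv B.ap B.aH haU (B.fpf P haU) (fun v hv => hcon v (hU0 hv))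
      (B.XH hx) (hXU hx) (commute_of_mem_centralizer_zpowers (B.Xa hx))
      (B.copXa.coprime_dvd_left (orderOf_dvd_natCard X hx))
      (B.copX.coprime_dvd_left (orderOf_dvd_natCard X hx))
      (commutator_mem_commutator hg (mem_zpowers x)))
  have h1 : z ∈ fixSub ρ U := (pack_commutator_le_ker P le_normalizer (pack_le_stab P)
    (commutator_mono hHR le_rfl hzH)).2
  exact hv0 (eq_zero_of_mem_ker_normOp
    (natCast_ne_zero_of_dvd (card_dvd_of_le (zpowers_le.2 hz.1)) B.hq) (hU0 hv)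
    (fixed_zpowers (h1 v hv)))

theorem num1 {q : ℕ} [hq : Fact q.Prime] (hX : IsPGroup q X) (P : Pack ρ H R ψ U)
    (haU : a ∈ stabSub ρ U) (hXU : X ≤ stabSub ρ U)
    (h0 : ∀ v ∈ U, ∀ x ∈ X, ρ x (normOp ρ (zpowers a) v) = normOp ρ (zpowers a) v)
    {x : Γ} (hx : x ∈ X) (hx1 : x ∉ CommCalc.relCent R H) (hx2 : x ^ q ∈ CommCalc.relCent R H) :
    q = 2 ∧ ∃ N, 2 ≤ N ∧ N ^ 2 = R.relIndex (⁅H, zpowers x⁆ ⊔ R) ∧ N + 1 = 2 * orderOf a := by
  have hc := commute_of_mem_centralizer_zpowers (B.Xa hx)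
  have hxa := B.copXa.coprime_dvd_left (orderOf_dvd_natCard X hx)
  have hDX : zpowers x ≤ X := zpowers_le.2 hx
  have hcop := B.copX.coprime_dvd_left (card_dvd_of_le hDX)
  have hxR := P.mem_normalizer (B.XH hx) (hXU hx)
  have haR := P.mem_normalizer B.aH haU
  obtain ⟨s, hs⟩ := orderOf_eq_pow_of_mem_isPGroup hX hx
  have hs0 : s ≠ 0 := by
    rintro rfl
    rw [pow_zero, orderOf_eq_one_iff] at hs
    exact hx1 (hs ▸ one_mem _)
  have hqr : q.Coprime (orderOf a) := (hs ▸ hxa : (q ^ s).Coprime _).coprime_dvd_left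
    (dvd_pow_self q hs0)
  -- the scalar
  have hZX : zpowers (x ^ q) ≤ X := zpowers_le.2 (pow_mem hx q)
  have hZ : ⁅H, zpowers (x ^ q)⁆ ≤ fixSub ρ U := by
    rw [← Cop.commutator_commutator_eq (hZX.trans B.XH)
      (B.copX.coprime_dvd_left (card_dvd_of_le hZX))]
    refine (commutator_mono ((le_relCent_iff (pack_le_normalizer P (hZX.trans B.XH)
      (hZX.trans hXU))).1 (zpowers_le.2 hx2)) le_rfl).trans
      ((pack_commutator_le_ker P (hZX.trans B.XH) (hZX.trans hXU)).trans inf_le_right)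
  have hyU : x * a ∈ stabSub ρ U := mul_mem (hXU hx) haU
  obtain ⟨W, hWU, hW0, hWi, hWm⟩ := exists_minimal_invariant (ρ '' H ∪ {ρ (x * a)}) U P.ne (by
    rintro _ (⟨g, hg, rfl⟩ | rfl)
    · exact P.inv g hg
    · exact hyU)
  have hyW : x * a ∈ stabSub ρ W := hWi _ (Or.inr rfl)
  have hxW : x ∈ stabSub ρ W := zpowers_le.2 hyW (mem_zpowers_mul_of_coprime hc hxa)
  have haW : a ∈ stabSub ρ W := zpowers_le.2 hyW (mem_zpowers_mul_of_coprime' hc hxa)
  obtain ⟨c, hc'⟩ := exists_scalar_on_min _ hW0 hWi hWm (ρ (x ^ q)) (pow_mem hxW q) (by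
    rintro _ (⟨g, hg, rfl⟩ | rfl) v hv
    · exact rho_comm_of_fix (hZ (comm_mem_iff.1 (commutator_mem_commutator (inv_mem hg)
        (inv_mem (mem_zpowers _)))) v (hWU hv))
    · exact rho_comm_of_commute (((Commute.refl x).mul_right hc).pow_left q) v)
  have P' := sub_pack P (hDX.trans B.XH) (hDX.trans hXU) hcop B.solv
  have hle : ⁅H, zpowers x⁆ ⊔ R ≤ H :=
    sup_le (Cop.commutator_le_left_of_le_normalizer (hDX.trans B.XH)) P.le
  have P'' := P'.mono hWU hW0 fun g hg => hWi _ (Or.inl ⟨g, hle hg, rfl⟩)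
  have hne : R ≠ ⁅H, zpowers x⁆ ⊔ R := fun h =>
    hx1 (zpowers_le.1 ((le_relCent_iff (zpowers_le.2 hxR)).2 (le_sup_left.trans h.ge)))
  have hy : x * a ∈ normalizer ((⁅H, zpowers x⁆ ⊔ R : Subgroup Γ) : Set Γ) :=
    zpowers_le.1 (le_normalizer_sup (Cop.le_normalizer_commutator
      (zpowers_le.2 (mul_mem (B.XH hx) B.aH))
      (zpowers_le.2 (mem_normalizer_zpowers ((Commute.refl x).mul_left hc.symm))))
      (zpowers_le.2 (mul_mem hxR haR)))
  obtain ⟨n, hn⟩ : ∃ n, orderOf a = n + 1 := ⟨_, (Nat.succ_pred_eq_of_pos B.ap.pos).symm⟩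
  obtain ⟨N, hN, -, h⟩ := P''.numerics (natCast_ne_zero_of_dvd (card_dvd_of_le hle) B.hq) hy hyW
    (h := q * orderOf a) (by nlinarith [hq.out.two_le, B.ap.two_le]) fun i hi0 hi g hg hgi => by
      have hyi := pow_mem (mul_mem hxR haR) i
      by_cases hri : orderOf a ∣ i
      · have hqi : ¬ q ∣ i := fun h => Nat.not_dvd_of_pos_of_lt hi0 hi (hqr.mul_dvd_of_dvd_of_dvd h hri)
        refine sub_fpf P (hDX.trans B.XH) (hDX.trans hXU) hcop hg fun d hd =>
          commutator_mem_of_mem_zpowers hyi hgi (zpowers_le.2 ?_ hd)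
        refine zpowers_le.2 (left_pow_mem_zpowers_pow hc hxa i) (mem_zpowers_pow_iff.2 ?_)
        rw [hs]
        exact ((Nat.coprime_comm.1 (hq.out.coprime_iff_not_dvd.2 hqi)).pow_right s).gcd_eq_one
      · exact B.fpf P haU g (hle hg) (commutator_mem_of_mem_zpowers hyi hgi
          (right_mem_zpowers_pow hc hxa (Nat.coprime_comm.1 (B.ap.coprime_iff_not_dvd.2 hri))))
  obtain ⟨g, hg1, hg2, hg3⟩ := exists_scaled_geom (V := V) c n
  have hm := (monic_X_sub_C (1 : k)).mul (hg1.expand hq.out.pos)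
  have hdeg : ((Polynomial.X - C (1 : k)) * expand k q g).natDegree = 1 + n * q := by
    rw [(monic_X_sub_C (1 : k)).natDegree_mul (hg1.expand hq.out.pos), natDegree_X_sub_C,
      natDegree_expand, hg2]
  have hoa : orderOf (a ^ q) = orderOf a := hqr.symm.orderOf_pow
  have hza : zpowers (a ^ q) = zpowers a :=
    le_antisymm (zpowers_le.2 (pow_mem (mem_zpowers a) q))
      (zpowers_le.2 (mem_zpowers_pow_iff.2 hqr.gcd_eq_one))
  obtain ⟨h1, h2⟩ := (h _ hm fun v hv => by
    rw [map_mul, Module.End.mul_apply, expand_aeval, hg3 W _ (ρ (a ^ q)) (pow_mem haW q)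
      (fun v hv => by rw [← map_pow, hc.mul_pow, rho_mul_apply, hc' _ (pow_mem haW q v hv)]) v hv,
      ← hn, ← hoa, ← normOp_zpowers, hza, map_smul, map_sub, aeval_X, aeval_C, map_one,
      LinearMap.sub_apply, rho_mul_apply, normOp_fixed (mem_zpowers a), h0 v (hWU hv) x hx,
      Module.End.one_apply, sub_self, smul_zero]).1 hne (by
        rw [hdeg, hn]; nlinarith [hq.out.two_le])
  rw [hdeg, hn] at h2
  obtain rfl : q = 2 := by nlinarith
  exact ⟨rfl, N, P''.two_le_of_sq hne hN, hN, h1⟩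

theorem fpf_of_not_mem (P : Pack ρ H R ψ U)
    (haU : a ∈ stabSub ρ U) (hXU : X ≤ stabSub ρ U)
    (h0 : ∀ v ∈ U, ∀ x ∈ X, ρ x (normOp ρ (zpowers a) v) = normOp ρ (zpowers a) v)
    (hp2 : p ≠ 2) (hr2 : Odd (orderOf a))
    {t : Γ} (ht : t ∈ X) (ht1 : t ∉ CommCalc.relCent R H) : ∀ g ∈ H, ⁅g, t⁆ ∈ R → g ∈ R := by
  have := Fact.mk B.pp
  have hc := commute_of_mem_centralizer_zpowers (B.Xa ht)
  have hDX : zpowers t ≤ X := zpowers_le.2 ht
  have hcop := B.copX.coprime_dvd_left (card_dvd_of_le hDX)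
  have htR := P.mem_normalizer (B.XH ht) (hXU ht)
  have P' := fix_pack P (hDX.trans B.XH) (hDX.trans hXU) hcop B.solv
  have hle : H ⊓ centralizer ((zpowers t : Subgroup Γ) : Set Γ) ⊔ R ≤ H := sup_le inf_le_left P.le
  have hWU := map_sub_one_le (hXU ht)
  have hW0 : U.map (ρ t - 1) ≠ ⊥ := fun h => ht1 ⟨htR, fun g hg => pack_ker_le P
    ⟨Cop.commutator_le_left_of_le_normalizer (hDX.trans B.XH)
      (comm_mem_iff.1 (commutator_mem_commutator hg (mem_zpowers t))),
     Cop.commutator_le_left_of_le_normalizer ((pack_le_stab P).trans stab_le_normalizer_fixSub)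
      (commutator_mem_commutator (mem_fixSub_of_map_sub_one h) hg)⟩⟩
  have P'' := P'.mono hWU hW0 (show _ ≤ stabSub ρ _ from sup_le
    (fun g hg => stab_map_sub_one (P.inv g hg.1) fun v _ =>
      rho_comm_of_commute (commute_of_mem_centralizer_zpowers hg.2) v)
    fun r hr v hv => by rw [P.scal r hr v (hWU hv)]; exact Submodule.smul_mem _ _ hv)
  have heq : R = H ⊓ centralizer ((zpowers t : Subgroup Γ) : Set Γ) ⊔ R := by
    by_contra hne
    obtain ⟨N, hN, hNa⟩ := pack_prime P'' (natCast_ne_zero_of_dvd (card_dvd_of_le hle) B.hq) B.ap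
      (zpowers_le.1 (le_normalizer_sup (Cop.le_normalizer_inf_centralizer (zpowers_le.2 B.aH)
        (zpowers_le.2 (mem_normalizer_zpowers hc.symm)))
        (zpowers_le.2 (P.mem_normalizer B.aH haU))))
      (stab_map_sub_one haU fun v _ => rho_comm_of_commute hc.symm v)
      (fun g hg => B.fpf P haU g (hle hg)) (by
        rintro _ ⟨v, hv, rfl⟩
        rw [LinearMap.sub_apply, map_sub, ← normOp_comm_apply (mem_normalizer_zpowers hc),
          h0 v hv t ht, Module.End.one_apply, sub_self]) hne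
    obtain ⟨d, rfl⟩ := exists_pow_of_sq_eq_relIndex (B.pH.to_le hle) hN
    have h1 : Odd (p ^ d) := (B.pp.odd_of_ne_two hp2).pow
    rw [← hNa] at hr2
    exact (Nat.not_even_iff_odd.2 hr2) h1.add_one
  intro g hg h
  rw [heq, mem_fix_iff (zpowers_le.2 htR) P.le (pack_le_normalizer P le_normalizer (pack_le_stab P))
    (hcop.coprime_dvd_right (card_dvd_of_le P.le)) (isSolvable_of_le B.solv P.le) hg]
  exact fun b hb => comm_mem_iff.1 (commutator_mem_of_mem_zpowers htR h hb)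

theorem branch2 {q : ℕ} [hq : Fact q.Prime] (hX : IsPGroup q X) (hH : ∃ h ∈ H, ρ h ≠ 1)
    {L : Subgroup Γ} (hLH : L ≤ normalizer (H : Set Γ)) (hLX : L ≤ normalizer (X : Set Γ))
    (hLa : L ≤ centralizer ((zpowers a : Subgroup Γ) : Set Γ))
    (hLc : L ≤ centralizer
      ((H ⊓ centralizer ((zpowers a : Subgroup Γ) : Set Γ) : Subgroup Γ) : Set Γ))
    (hgen : X ≤ ⁅X, L⁆ ⊔ X ⊓ centralizer (H : Set Γ)) :
    ∃ v, normOp ρ H v = 0 ∧ ∃ x ∈ X, ρ x (normOp ρ (zpowers a) v) ≠ normOp ρ (zpowers a) v := by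
  classical
  have := Fact.mk B.pp
  by_contra hcon
  push Not at hcon
  obtain ⟨R, ψ, U, e, P, hU, he1, he0, -⟩ := exists_component ρ H B.hq
    (LinearMap.ker (normOp ρ H)) (ker_normOp_ne_bot hH)
    (fun g hg => stab_ker_normOp (le_normalizer hg)) (B.hcl _)
  have hU0 : U ≤ LinearMap.ker (normOp ρ H) := hU.le.trans inf_le_left
  have h0 := fun v (hv : v ∈ U) => hcon v (hU0 hv)
  obtain ⟨v, hv, hv0⟩ := (Submodule.ne_bot_iff U).1 P.ne
  have hK : ¬ H ≤ fixSub ρ U := fun h =>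
    hv0 (eq_zero_of_mem_ker_normOp B.hq (hU0 hv) fun g hg => h hg v hv)
  have hAH : zpowers a ≤ normalizer (H : Set Γ) := zpowers_le.2 B.aH
  have haU : a ∈ stabSub ρ U := by
    by_contra ha
    have key := fun v hv => proj_normOp B.ap he1
      (fun y hy => he0 y (hAH hy) (stab_ker_normOp (hAH hy))) ha (v := v) hv
    refine hK (B.gen.ge.trans ?_)
    rw [commutator_comm]
    refine (commutator_mono (fun x hx w hw => ?_) le_rfl).trans
      (Cop.commutator_le_left_of_le_normalizer ((pack_le_stab P).trans stab_le_normalizer_fixSub))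
    have hxU : x ∈ stabSub ρ U := by
      by_contra hxU
      refine hv0 ?_
      have := Fintype.ofFinite (zpowers a)
      rw [← key v hv, ← h0 v hv x hx, normOp_eq, LinearMap.sum_apply, map_sum, map_sum]
      refine Finset.sum_eq_zero fun b _ => ?_
      have h1 := mul_mem (B.XH hx) (hAH b.2)
      rw [← rho_mul_apply]
      refine he0 _ h1 (stab_ker_normOp h1) (fun h => hxU (zpowers_le.2 h
        (mem_zpowers_mul_of_coprime (B.Xa hx b b.2).symm ?_))) v hv
      exact (B.copXa.coprime_dvd_left (orderOf_dvd_natCard X hx)).coprime_dvd_right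
        (orderOf_dvd_of_mem_zpowers b.2)
    rw [← key _ (hxU w hw), ← normOp_comm_apply (centralizer_le_normalizer _ (B.Xa hx)),
      h0 w hw x hx, key w hw]
  have hXU := B.stab P hU haU (B.XH.trans stab_ker_normOp)
  have hLR : L ≤ normalizer (R : Set Γ) := fun y hy =>
    (stab_lemma P hAH (zpowers_le.2 haU) B.copA B.solv (hLH hy)
      (centralizer_le_normalizer _ (hLa hy)) (hLc hy)).1
  have hXR := pack_le_normalizer P B.XH hXU
  have hHR := pack_not_le P hK B.gen B.XH hXU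
  have hne : R ≠ H := fun h => hHR h.ge
  set K := CommCalc.relCent R H with hKdef
  have hXK : ¬ X ≤ K := fun h => hHR (B.gen.ge.trans ((le_relCent_iff hXR).1 h))
  obtain ⟨t₀, ht₀, ht₀K⟩ := SetLike.not_le_iff_exists.1 hXK
  obtain ⟨s, hs⟩ := orderOf_eq_pow_of_mem_isPGroup hX ht₀
  obtain ⟨j, hj1, hj2⟩ := exists_pow_step (q := q) ht₀K (m := s)
    (by rw [← hs, pow_orderOf_eq_one]; exact one_mem _)
  have hxX := pow_mem ht₀ (q ^ j)
  obtain ⟨rfl, N, hN2, hN, hNa⟩ := B.num1 hX P haU hXU h0 hxX hj1 hj2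
  set x := t₀ ^ 2 ^ j
  have hp2 : p ≠ 2 := by
    rintro rfl
    obtain ⟨d, rfl⟩ := exists_pow_of_sq_eq_relIndex (B.pH.to_le (sup_le
      (Cop.commutator_le_left_of_le_normalizer (zpowers_le.2 (B.XH hxX))) P.le)) hN
    rcases d with _ | d
    · omega
    · rw [pow_succ] at hNa; omega
  have hr2 : Odd (orderOf a) := by
    have hs0 : s ≠ 0 := by
      rintro rfl
      rw [pow_zero, orderOf_eq_one_iff] at hs
      exact ht₀K (hs ▸ one_mem _)
    exact Nat.coprime_two_left.1 ((B.copXa.coprime_dvd_left (orderOf_dvd_natCard X ht₀)).coprime_dvd_left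
      (hs ▸ dvd_pow_self 2 hs0))
  have hF := fun t ht ht1 => B.fpf_of_not_mem P haU hXU h0 hp2 hr2 (t := t) ht ht1
  have hNH : N ^ 2 = R.relIndex H := by
    rw [hN]
    congr 1
    refine le_antisymm (sup_le (Cop.commutator_le_left_of_le_normalizer (zpowers_le.2 (B.XH hxX)))
      P.le) ?_
    refine (Cop.commutator_sup_centralizer (zpowers_le.2 (B.XH hxX))
      (B.copX.coprime_dvd_left (card_dvd_of_le (zpowers_le.2 hxX))) (Or.inl inferInstance)).ge.trans
      (sup_le_sup_left (fun g hg => hF x hxX hj1 g hg.1 ?_) _)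
    rw [(commute_of_mem_centralizer_zpowers hg.2).commutator_eq]
    exact one_mem _
  have hsq : ∀ t ∈ X, t ^ 2 ∈ K := by
    intro t ht
    by_contra ht2
    have hc := commute_of_mem_centralizer_zpowers (B.Xa ht)
    have hta := B.copXa.coprime_dvd_left (orderOf_dvd_natCard X ht)
    have hyR := mul_mem (hXR ht) (P.mem_normalizer B.aH haU)
    obtain ⟨N', hN', h, -⟩ := P.numerics B.hq (mul_mem (B.XH ht) B.aH) (mul_mem (hXU ht) haU)
      (h := 2 * orderOf a + 1) (by have := B.ap.pos; omega) fun i hi0 hi g hg hgi => by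
        by_cases hri : orderOf a ∣ i
        · refine hF (t ^ i) (pow_mem ht i) (fun h => ht2 ?_) g hg
            (commutator_mem_of_mem_zpowers (pow_mem hyR i) hgi (left_pow_mem_zpowers_pow hc hta i))
          obtain ⟨c, rfl⟩ := hri
          have h1 : t ^ c ∈ K := by
            rw [mul_comm, pow_mul] at h
            exact zpowers_le.2 h (mem_zpowers_pow_iff.2
              (hta.coprime_dvd_left (orderOf_pow_dvd c)).symm.gcd_eq_one)
          have h2 : c = 1 ∨ c = 2 := by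
            have h3 : c ≠ 0 := by rintro rfl; simp at hi0
            have h4 : c ≤ 2 := by
              by_contra h4
              have := Nat.mul_le_mul_left (orderOf a) (show 3 ≤ c by omega)
              have := B.ap.two_le
              omega
            omega
          rcases h2 with rfl | rfl
          · exact pow_mem (by simpa using h1) 2
          · exact h1
        · exact B.fpf P haU g hg (commutator_mem_of_mem_zpowers (pow_mem hyR i) hgi
            (right_mem_zpowers_pow hc hta (Nat.coprime_comm.1 (B.ap.coprime_iff_not_dvd.2 hri))))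
    have := Nat.pow_left_injective two_ne_zero (hN'.trans hNH.symm)
    have := h hne
    omega
  have hinv : ∀ t ∈ X, t ∉ K → ∀ g ∈ H, t * g * t⁻¹ * g ∈ R := by
    intro t ht htK g hg
    have h1 := conj_mem_of_mem_normalizer (B.XH ht) hg
    refine hF t ht htK _ (mul_mem h1 hg) ?_
    rw [show ⁅t * g * t⁻¹ * g, t⁆ = ⁅t * g * t⁻¹, g⁆ * ⁅g, t ^ 2⁆ by
      simp only [commutatorElement_def, pow_two]; group]
    exact mul_mem (P.comm _ h1 _ hg) (comm_mem_iff.1 ((hsq t ht).2 g hg))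
  refine hXK (hgen.trans (sup_le (commutator_le.2 fun t ht l hl => ?_) fun t ht =>
    ⟨hXR ht.1, fun g hg => by
      rw [commutatorElement_eq_one_iff_mul_comm.2 (ht.2 g hg).symm]; exact one_mem _⟩))
  have hlK := le_normalizer_relCent hLR hLH hl
  have h1 : l * t⁻¹ * l⁻¹ ∈ X := conj_mem_of_mem_normalizer (hLX hl) (inv_mem ht)
  rw [show ⁅t, l⁆ = t * (l * t⁻¹ * l⁻¹) by simp only [commutatorElement_def]; group]
  by_cases htK : t ∈ K
  · exact mul_mem htK (conj_mem_of_mem_normalizer hlK (inv_mem htK))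
  · have h2 : l * t⁻¹ * l⁻¹ ∉ K := fun h => htK (by
      simpa [mul_assoc] using inv_mem (conj_mem_of_mem_normalizer' hlK h))
    refine ⟨mul_mem (hXR ht) (hXR h1), fun g hg => ?_⟩
    generalize l * t⁻¹ * l⁻¹ = t' at h1 h2
    rw [show ⁅t * t', g⁆ = t * (t' * g * t'⁻¹ * g) * t⁻¹ * (t * g⁻¹ * t⁻¹ * g⁻¹) by
      simp only [commutatorElement_def]; group]
    exact mul_mem (conj_mem_of_mem_normalizer (hXR ht) (hinv t' h1 h2 g hg))
      (hinv t ht htK _ (inv_mem hg))

end BrData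

end CfsgLib.H6T
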