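import Cfsg.Agent.Lib.H6T.AB

/-! # Fitting height and fixed points, part 6: critical subgroups and lifting -/

set_option autoImplicit false
set_option linter.unusedSectionVars false

namespace CfsgLib.H6T

open Module Subgroup Polynomial CfsgLib.H9 CfsgLib.Fpf Cfsg
open scoped commutatorElement

universe u v w

variable {Γ : Type w} [Group Γ] [Finite Γ]

theorem exists_crit {Y : Subgroup Γ} [hY : Y.Normal] (hs : Group.IsSolvable Y)
    (h : ¬ Group.IsNilpotent Y) : ∃ (p : ℕ) (N T : Subgroup Γ), p.Prime ∧ N.Normal ∧ T.Normal ∧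
      IsPGroup p N ∧ N ≤ res Y ∧ T < N ∧ ⁅N, N⁆ ≤ T ∧ (∀ g ∈ N, g ^ p ∈ T) ∧
      T ≤ centralizer (N : Set Γ) ∧ (∀ Q : Subgroup Γ, Q.Normal → Q ≤ N → Q = N ∨ Q ≤ T) ∧
      (∀ y ∈ Y, (orderOf y).Coprime p → y ∈ centralizer (T : Set Γ)) ∧ ¬ ⁅N, Y⁆ ≤ T := by
  obtain ⟨q, p, hq, hp, hqp, x, hx, y, hy, hyp, ⟨s, hs'⟩, hxy⟩ : ∃ (q p : ℕ) (_ : Fact q.Prime)
      (_ : Fact p.Prime), q ≠ p ∧ ∃ x ∈ Y, ∃ y ∈ Y, y ∈ pCore p Γ ∧ (∃ s, orderOf x = q ^ s) ∧
        ¬ Commute x y := by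
    by_contra hcon
    push Not at hcon
    exact h (isNilpotent_of_le fitting_isNilpotent (le_fitting_of_forall_commute hs
      fun p q hp hq => hcon p q hp hq))
  let O : Subgroup Γ := closure {y | y ∈ Y ∧ (orderOf y).Coprime p}
  have hOY : O ≤ Y := (closure_le _).2 fun y hy => hy.1
  have hO : O.Normal := ⟨fun z hz g => by
    have : O.map (MulAut.conj g).toMonoidHom ≤ O := by
      rw [MonoidHom.map_closure, closure_le]
      rintro _ ⟨y, hy, rfl⟩
      exact subset_closure ⟨hY.conj_mem _ hy.1 g, by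
        rw [orderOf_injective _ (MulAut.conj g).injective]; exact hy.2⟩
    exact this (conj_mem_map_conj hz)⟩
  have hxO : x ∈ O := subset_closure ⟨hx, hs' ▸ ((Nat.coprime_primes hq.out hp.out).2 hqp).pow_left s⟩
  obtain ⟨N, hN₀, hN⟩ := exists_minimal_le_of_wellFoundedLT
    (fun N : Subgroup Γ => N.Normal ∧ ⁅N, O⁆ ≠ ⊥) (Y ⊓ pCore p Γ) ⟨inferInstance, fun h =>
      hxy (commutatorElement_eq_one_iff_commute.1 (mem_bot.1
        (h.le (commutator_mem_commutator ⟨hy, hyp⟩ hxO)))).symm⟩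
  have hNn := hN.1.1
  have hNp : IsPGroup p N := (pCore_isPGroup p).to_le (hN₀.trans inf_le_right)
  have hNY := hN₀.trans inf_le_left
  have hI : ∀ Q : Subgroup Γ, Q.Normal → Q ≤ N → Q = N ∨ Q ≤ N ⊓ centralizer (O : Set Γ) := by
    intro Q hQ hQN
    by_cases h : ⁅Q, O⁆ = ⊥
    · exact Or.inr (le_inf hQN (commutator_eq_bot_iff_le_centralizer.1 h))
    · exact Or.inl (le_antisymm hQN (hN.2 ⟨hQ, h⟩ hQN))
  have hlt : N ⊓ centralizer (O : Set Γ) < N := lt_of_le_of_ne inf_le_left fun h =>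
    hN.1.2 (commutator_eq_bot_iff_le_centralizer.2 (h.ge.trans inf_le_right))
  have hNO : ⁅N, O⁆ = N := by
    refine (hI _ inferInstance (commutator_le_left _ _)).resolve_right fun h => hN.1.2 ?_
    rw [Cop.commutator_eq_bot_iff_le_centralizer', closure_le]
    intro z hz
    have hzO : zpowers z ≤ O := zpowers_le.2 (subset_closure hz)
    refine zpowers_le.1 (Cop.commutator_eq_bot_iff_le_centralizer'.1
      (Cop.commutator_eq_bot_of_commutator_commutator_eq_bot le_normalizer_of_normal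
        (Cop.coprime_card_of_isPGroup (by rw [Nat.card_zpowers]; exact hz.2) hNp) ?_))
    exact commutator_eq_bot_iff_le_centralizer.2 ((((commutator_mono le_rfl hzO).trans h).trans
      inf_le_right).trans (centralizer_le hzO))
  have hN0 : N ≠ ⊥ := fun h => hN.1.2 (by rw [h, commutator_bot_left])
  have hF : (frattini N).map N.subtype ≤ N ⊓ centralizer (O : Set Γ) :=
    (hI _ (normal_of_le_normalizer_top (Cop.le_normalizer_frattini le_normalizer_of_normal))
      (map_subtype_le _)).resolve_left (Cop.frattini_map_lt hN0).ne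
  have hle : N ≤ ⁅N, Y⁆ := hNO.ge.trans (commutator_mono le_rfl hOY)
  refine ⟨p, N, N ⊓ centralizer (O : Set Γ), hp.out, hNn, inferInstance, hNp,
    le_res_of_le_commutator hNY hle, hlt, (Cop.commutator_le_frattini_map hNp).trans hF,
    fun g hg => hF (Cop.pow_mem_frattini_map hNp hg), ?_, hI,
    fun z hz hzp t ht => (ht.2 z (subset_closure ⟨hz, hzp⟩)).symm, fun h => hlt.not_ge (hle.trans h)⟩
  rw [← Cop.commutator_eq_bot_iff_le_centralizer', eq_bot_iff]
  conv_lhs => enter [1]; rw [← hNO]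
  refine CommCalc.three_subgroups_normal ?_ ?_
  · rw [Cop.commutator_eq_bot_iff_le_centralizer'.2 inf_le_right, commutator_bot_left]
  · exact (commutator_eq_bot_iff_le_centralizer.2
      ((commutator_le_left _ _).trans inf_le_right)).le

theorem exists_lift {Γ' : Type*} [Group Γ'] (π : Γ →* Γ') {G Y A : Subgroup Γ} [G.Normal]
    [Y.Normal] (hY : Y ≤ G) (hs : Group.IsSolvable G) (hcop : (Nat.card A).Coprime (Nat.card G))
    {q : ℕ} [Fact q.Prime] {H' : Subgroup Γ'} (hH : IsPGroup q H') (hHY : H' ≤ Y.map π)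
    (hA : A.map π ≤ normalizer (H' : Set Γ')) :
    ∃ S : Subgroup Γ, S ≤ Y ∧ IsPGroup q S ∧ A ≤ normalizer (S : Set Γ) ∧ S.map π = H' ∧
      G.map π ⊓ centralizer ((A.map π : Subgroup Γ') : Set Γ') ⊓ normalizer (H' : Set Γ') ≤
        (G ⊓ centralizer (A : Set Γ) ⊓ normalizer (S : Set Γ)).map π ∧
      ∀ U : Subgroup Γ, U ≤ Y → IsPGroup q U → U.map π ≤ H' → U ≤ normalizer (S : Set Γ) →
        U ≤ S := by
  have hn : ∀ y, π y ∈ normalizer (H' : Set Γ') →
      y ∈ normalizer ((Y ⊓ H'.comap π : Subgroup Γ) : Set Γ) := fun y hy =>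
    mem_normalizer_of_conj_mem fun g hg => ⟨Normal.conj_mem inferInstance _ hg.1 y, by
      have := conj_mem_of_mem_normalizer hy hg.2
      rwa [← map_inv, ← map_mul, ← map_mul] at this⟩
  set E := Y ⊓ H'.comap π with hE
  have hEG : E ≤ G := inf_le_left.trans hY
  have hAE : A ≤ normalizer (E : Set Γ) := fun b hb => hn b (hA (mem_map_of_mem π hb))
  have hcE := hcop.coprime_dvd_right (card_dvd_of_le hEG)
  have hsE : Group.IsSolvable A ∨ Group.IsSolvable E := Or.inr (isSolvable_of_le hs hEG)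
  obtain ⟨S, hS, hAS⟩ := Cop.exists_invariant_sylowOf q hAE hcE hsE
  have hSp := Cop.isPGroup_of_isPiHallOf hS
  have hSE : S ≤ E := hS.1
  have hSH : S.map π = H' := by
    refine le_antisymm (map_le_iff_le_comap.2 (hSE.trans inf_le_right)) ?_
    obtain ⟨S₀, h1, h2, h3⟩ := exists_lift_isPGroup π (K := E) (Q := H') (fun x hx => by
      obtain ⟨y, hy, rfl⟩ := hHY hx
      exact ⟨y, ⟨hy, hx⟩, rfl⟩) hH
    obtain ⟨g, hg, h4⟩ := Cop.exists_conj_le_sylowOf h2 h1 hS
    intro x hx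
    obtain ⟨y, hy, h5⟩ := h3.ge (conj_mem_of_mem_normalizer' (le_normalizer hg.2) hx)
    refine ⟨_, h4 (conj_mem_map_conj hy), ?_⟩
    rw [map_mul, map_mul, h5, map_inv]; group
  refine ⟨S, hSE.trans inf_le_left, hSp, hAS, hSH, ?_, fun U h1 h2 h3 h4 => ?_⟩
  · rintro d ⟨hd1, hd2⟩
    rw [Cop.map_inf_centralizer_map π le_normalizer_of_normal
      (hcop.coprime_dvd_right (card_dvd_of_le inf_le_left))
      (Or.inr (isSolvable_of_le hs inf_le_left))] at hd1
    obtain ⟨c, hc, rfl⟩ := hd1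
    obtain ⟨g, hg, m, hm, hgm⟩ := Cop.frattini_argument hS (zpowers_le.2 (hn c hd2)) (mem_zpowers c)
    obtain ⟨y, hy, h1⟩ := Cop.exists_centralizer_conj (K := S.map (MulAut.conj c).toMonoidHom) hAE
      hcE hsE hAS (fun b hb => mem_normalizer_of_map_conj_eq (by
        rw [← map_conj_mul, hc.2 b hb, map_conj_mul, map_conj_eq_of_mem_normalizer (hAS hb)])) hg
      (by rw [← hgm, map_conj_mul, map_conj_eq_of_mem_normalizer hm])
    have h2 : y⁻¹ * c ∈ normalizer (S : Set Γ) := mem_normalizer_of_map_conj_eq (by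
      rw [map_conj_mul, h1, ← map_conj_mul, inv_mul_cancel, map_conj_one])
    have h3 : π y ∈ (S ⊓ centralizer (A : Set Γ)).map π := by
      rw [← Cop.map_inf_centralizer_map π hAS
        (hcE.coprime_dvd_right (card_dvd_of_le (inf_le_left.trans hSE)))
        (Or.inr (isSolvable_of_le hs (inf_le_left.trans (hSE.trans hEG)))), hSH]
      refine ⟨hy.1.2, ?_⟩
      rintro _ ⟨b, hb, rfl⟩
      rw [← map_mul, hy.2 b hb, map_mul]
    obtain ⟨s, hs', h4⟩ := h3
    refine ⟨s * (y⁻¹ * c), ⟨⟨G.mul_mem (hEG (hSE hs'.1)) (G.mul_mem (G.inv_mem (hEG hy.1)) hc.1),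
      (centralizer (A : Set Γ)).mul_mem hs'.2 ((centralizer (A : Set Γ)).mul_mem
        ((centralizer (A : Set Γ)).inv_mem hy.2) hc.2)⟩,
      (normalizer (S : Set Γ)).mul_mem (le_normalizer hs'.1) h2⟩, ?_⟩
    rw [map_mul, map_mul, h4, map_inv, mul_inv_cancel_left]
  · exact le_sup_left.trans (Cop.eq_of_sylowOf_le hS (h2.to_sup_of_normal_right' hSp h4)
      (sup_le (le_inf h1 (map_le_iff_le_comap.1 h3)) hSE) le_sup_right).ge

section sec
variable {Γ' : Type*} [Group Γ'] [Finite Γ'] {k : Type u} [Field k] {W : Type v} [AddCommGroup W]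
  [Module k W] {p : ℕ} {N T : Subgroup Γ} {π : Γ →* Γ'} {σ : Γ' →* Module.End k W} {ι : Γ → W}

theorem exists_eq_of_closure (S : SecRep p (MonoidHom.id Γ) N T (σ.comp π) ι)
    (hπ : Function.Surjective π) {f : Module.End k W} (hf : f ∈ Subring.closure (Set.range σ)) :
    ∀ n ∈ N, ∃ m ∈ N, ι m = f (ι n) := by
  induction hf using Subring.closure_induction with
  | mem x hx =>
    obtain ⟨g, rfl⟩ := hx
    obtain ⟨g, rfl⟩ := hπ g
    exact fun n hn => ⟨_, S.conj_mem g hn, S.conj g n hn⟩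
  | zero => exact fun n _ => ⟨1, one_mem _, S.map_one⟩
  | one => exact fun n hn => ⟨n, hn, rfl⟩
  | add x y _ _ hx hy =>
    intro n hn
    obtain ⟨a, ha, h1⟩ := hx n hn
    obtain ⟨b, hb, h2⟩ := hy n hn
    exact ⟨a * b, mul_mem ha hb, by rw [S.map_mul a ha b hb, h1, h2, LinearMap.add_apply]⟩
  | neg x _ hx =>
    intro n hn
    obtain ⟨a, ha, h1⟩ := hx n hn
    exact ⟨a⁻¹, inv_mem ha, by rw [S.map_inv ha, h1, LinearMap.neg_apply]⟩
  | mul x y _ _ hx hy =>
    intro n hn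
    obtain ⟨b, hb, h2⟩ := hy n hn
    obtain ⟨a, ha, h1⟩ := hx b hb
    exact ⟨a, ha, by rw [h1, h2, Module.End.mul_apply]⟩

theorem core_eq_bot [hp : Fact p.Prime] [N.Normal] [T.Normal]
    (S : SecRep p (MonoidHom.id Γ) N T (σ.comp π) ι) (hπ : Function.Surjective π)
    (hσ : Function.Injective σ) (hN : IsPGroup p N) (hlt : T < N)
    (hI : ∀ Q : Subgroup Γ, Q.Normal → Q ≤ N → Q = N ∨ Q ≤ T) {R : Subgroup Γ'} (hR : R.Normal)
    (hRp : IsPGroup p R) : R = ⊥ := by
  obtain ⟨P, -, hP, hPR⟩ := exists_lift_isPGroup π (K := ⊤) (Q := R)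
    (by rw [map_top_of_surjective π hπ]; exact le_top) hRp
  have := hR.comap π
  have h1 : ¬ N ⊓ CommCalc.relCent T (R.comap π) ≤ T := by
    intro h
    have h2 := prime_dvd_relIndex_sub_one hP le_normalizer_of_normal le_normalizer_of_normal hlt.le
      le_normalizer_of_normal fun g hg h' => h ⟨hg, le_normalizer_of_normal (mem_top g),
        fun t ht => by
          obtain ⟨s, hs, h3⟩ := hPR.ge ht
          rw [comm_mem_iff]
          refine (S.eq_zero_iff _ (S.commutator_mem t hg)).1 ?_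
          rw [S.map_commutator t hg, MonoidHom.comp_apply, ← h3, ← MonoidHom.comp_apply,
            ← S.map_commutator s hg]
          exact (S.eq_zero_iff _ (S.commutator_mem s hg)).2 (comm_mem_iff.1 (h' s hs))⟩
    obtain ⟨j, hj⟩ := hN.index (T.subgroupOf N)
    have h3 : T.relIndex N ≠ 1 := fun h => hlt.not_ge (relIndex_eq_one.1 h)
    rw [relIndex, hj] at h2 h3
    have h4 : p ∣ p ^ j := dvd_pow_self p (by rintro rfl; simp at h3)
    exact hp.out.one_lt.ne' (Nat.dvd_one.1 ((Nat.dvd_sub_iff_right (Nat.one_le_pow _ _ hp.out.pos)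
      h4).1 h2))
  have h2 := (hI (N ⊓ CommCalc.relCent T (R.comap π)) (normal_of_le_normalizer_top
    fun x hx => inf_normalizer_le_normalizer_inf ⟨le_normalizer_of_normal hx,
      le_normalizer_relCent le_normalizer_of_normal le_normalizer_of_normal hx⟩)
    inf_le_left).resolve_right h1
  rw [eq_bot_iff]
  intro x hx
  obtain ⟨g, rfl⟩ := hπ x
  exact mem_bot.2 (hσ (((S.rho_eq_one_iff g).2 fun m hm =>
    comm_mem_iff.1 ((h2.ge hm).2.2 g hx)).trans (map_one σ).symm))

end sec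

end CfsgLib.H6T
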