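import Cfsg.Agent.Lib.H6T.Step

/-! # Fitting height and fixed points of a coprime automorphism of prime order (Turull) -/

set_option autoImplicit false
set_option linter.unusedSectionVars false

namespace CfsgLib.H6T

open Module Subgroup Polynomial CfsgLib.H9 CfsgLib.Fpf Cfsg
open scoped commutatorElement

universe u

theorem main_ind {r : ℕ} (hr : r.Prime) (n : ℕ) : ∀ (Γ : Type u) [Group Γ] [Finite Γ]
    (G : Subgroup Γ) [G.Normal] (a : Γ) (k : Type) [Field k] [IsAlgClosed k] (V : Type u)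
    [AddCommGroup V] [Module k V] [FiniteDimensional k V] (ρ : Γ →* Module.End k V),
    Group.IsSolvable G → (Nat.card G).Coprime r → a ^ r = 1 → Function.Injective ρ →
    (∀ (p : ℕ) (R : Subgroup Γ), p.Prime → R.Normal → R ≤ G → IsPGroup p R → R ≠ ⊥ → (p : k) ≠ 0) →
    lfs G n ≠ ⊥ → St0 k G a n ∨ St1 ρ G a n := by
  induction n with
  | zero =>
    intro Γ _ _ G _ a k _ _ V _ _ _ ρ hs hcop har hρ hyp h0
    obtain ⟨N, hN, hNG⟩ := exists_isMinNormal_le G h0
    have hsN := isSolvable_of_le hs hNG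
    obtain ⟨p, hp, hNp⟩ := hN.exists_isPGroup hsN
    have := Fact.mk hp
    have := Fact.mk hr
    have := hN.1
    have hpk := hyp p N hp hN.1 hNG hNp hN.2.1
    by_cases hc : ⁅N, zpowers a⁆ = ⊥
    · exact Or.inl ⟨p, N, hp, hNp, hpk, hN.2.1, le_inf (le_inf hNG
        (commutator_eq_bot_iff_le_centralizer.1 hc)) le_normalizer, fun h => absurd h (by omega)⟩
    right
    have ha1 : a ≠ 1 := by rintro rfl; exact hc (by simp)
    have hap : (orderOf a).Prime := by rw [orderOf_eq_prime har ha1]; exact hr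
    have hcA : (Nat.card (zpowers a)).Coprime (Nat.card N) := by
      rw [Nat.card_zpowers, orderOf_eq_prime har ha1]
      exact hcop.symm.coprime_dvd_right (card_dvd_of_le hNG)
    have hH : ⁅N, zpowers a⁆ ≤ N := commutator_le_left _ _
    have hHk := card_ne_zero_of_isPGroup (hNp.to_le hH) hpk
    have haH := normalizer_commutator_ge_right N (zpowers a) (mem_zpowers a)
    refine ⟨p, _, hp, hNp.to_le hH, hpk, hH.trans hNG, haH,
      Cop.commutator_commutator_eq le_normalizer_of_normal hcA,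
      Or.inl ⟨1, one_mem _, by simp, Mod1.mono (mod1_one hHk haH ?_) (by omega)⟩⟩
    by_contra hcon
    push Not at hcon
    obtain ⟨⟨h, hh⟩, h1⟩ := ne_bot_iff_exists_ne_one.1 hc
    exact ker_normOp_ne_bot ⟨h, hh, fun h2 => h1 (Subtype.ext (hρ (h2.trans (map_one ρ).symm)))⟩
      (frob_eq_bot hap haH (Cop.commutator_inf_centralizer_eq_bot le_normalizer_of_normal hcA
        (hN.isMulCommutative_of_isSolvable hsN)) hHk (le_normalizer.trans stab_ker_normOp)
        (stab_ker_normOp haH) (fun v hv => hv) hcon)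
  | succ n ih =>
    intro Γ _ _ G _ a k _ _ V _ _ _ ρ hs hcop har hρ hyp h0
    have := lfs_normal G n
    obtain ⟨p, N, T, hp, hN, hT, hNp, hNY, hlt, hcomm, hpow, hcen, hmin, hcenY, hnt⟩ :=
      exists_crit (isSolvable_of_le hs (lfs_le G n)) fun h => h0 (res_eq_bot_iff.2 h)
    have := Fact.mk hp
    obtain ⟨W, _, _, _, σ₀, ι, S⟩ := exists_secRep p (MonoidHom.id Γ) N T hlt.le
      (fun g => le_normalizer_of_normal (mem_top g)) (fun g => le_normalizer_of_normal (mem_top g))
      hcomm hpow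
    obtain ⟨Γ', _, _, π, σ, hinj, hsurj, hσ⟩ := exists_faithful σ₀
    obtain rfl : σ₀ = σ.comp π := MonoidHom.ext fun g => (hσ g).symm
    have c : Ctx G N T a r p n π σ ι := ⟨inferInstance, hs, hr, har, hcop, hp, hN, hT, hNp, hNY,
      hcomm, hpow, hcen, hmin, hcenY, S, hsurj, hinj, CharP.cast_eq_zero _ p⟩
    have hpk := hyp p N hp hN c.NG hNp (ne_bot_of_gt hlt)
    have := (inferInstance : G.Normal).map π hsurj
    rcases ih Γ' (G.map π) (π a) _ W σ (isSolvable_map hs π)
      (hcop.coprime_dvd_left (card_map_dvd _ _)) (by rw [← map_pow, har, map_one]) hinj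
      (fun q R hq hR _ hRq hR0 => natCast_ne_zero_of_coprime _ p
        ((Nat.coprime_primes hq hp).2 (by
          rintro rfl
          exact hR0 (core_eq_bot S hsurj hinj hNp hlt hmin hR hRq))))
      (fun h => hnt (commutator_le.2 fun m hm g hg => comm_mem_iff.1
        (c.ker_iff.1 (lfs_le_ker_iff π |>.2 h hg) m hm))) with h | h
    · exact c.step0 hρ hpk h
    · exact Or.inr (c.step1 hρ hpk h)

theorem lfs_ne_bot {r : ℕ} (hr : r.Prime) {n : ℕ} {Γ : Type u} [Group Γ] [Finite Γ]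
    {G : Subgroup Γ} [G.Normal] {a : Γ} (hs : Group.IsSolvable G) (hcop : (Nat.card G).Coprime r)
    (har : a ^ r = 1) (h : lfs G (n + 2) ≠ ⊥) :
    lfs (G ⊓ centralizer ((zpowers a : Subgroup Γ) : Set Γ)) n ≠ ⊥ := by
  intro h0
  have h1 : ∀ H m, n ≤ m → lfs (Dn G a H) m ≤ ⊥ := fun H m hm =>
    ((lfs_mono inf_le_left m).trans (lfs_antitone _ hm)).trans h0.le
  have hinj : Function.Injective (Representation.ofMulAction ℂ Γ Γ) := fun x y hxy => by
    have := congrArg (fun T : Module.End ℂ (MonoidAlgebra ℂ Γ) => T (MonoidAlgebra.single 1 1)) hxy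
    simp only [Representation.ofMulAction_single, smul_eq_mul, mul_one] at this
    exact MonoidAlgebra.single_left_injective one_ne_zero this
  rcases main_ind hr (n + 2) Γ G a ℂ (MonoidAlgebra ℂ Γ) (Representation.ofMulAction ℂ Γ Γ) hs hcop har hinj
    (fun p _ hp _ _ _ _ => Nat.cast_ne_zero.2 hp.ne_zero) h with
    ⟨p, P, -, -, -, h2, h3, -⟩ | ⟨q, H, -, -, -, -, -, -,
      ⟨d, hd, -, M, -, -, -, -, -, h2, v, hv, h3⟩ | ⟨X, hX, -, M, -, -, -, -, -, v, -, x, hx, h2⟩⟩
  · exact h2 (eq_bot_iff.2 (h3.trans (h1 P _ (by omega))))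
  · rw [mem_bot.1 (h1 H _ (by omega) hd)] at h2
    exact h3 (by rw [h2 (by omega) v hv (by simp), map_zero])
  · rw [mem_bot.1 (h1 H _ (by omega) (hX hx))] at h2
    exact h2 (by simp)

open CopAut SemidirectProduct in
theorem turull {G : Type u} [Group G] [Finite G] (hG : Group.IsSolvable G) (σ : MulAut G) {r : ℕ}
    (hr : r.Prime) (hσ : orderOf σ = r) (hcop : ¬ r ∣ Nat.card G) (C : Subgroup G)
    (hC : ∀ g : G, g ∈ C ↔ σ g = g) {n : ℕ} (hn : lfs (⊤ : Subgroup C) n = ⊥) :
    lfs (⊤ : Subgroup G) (n + 2) = ⊥ := by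
  let φ := (zpowers σ).subtype
  have := finite_semidirect (φ := φ)
  have := normal_L (φ := φ) ⊤ inv_top
  let a : zpowers σ := ⟨σ, mem_zpowers σ⟩
  have ha : zpowers a = ⊤ := by
    rw [eq_top_iff]
    rintro ⟨_, i, rfl⟩ -
    exact ⟨i, rfl⟩
  have hR : zpowers (inr a : G ⋊[φ] zpowers σ) = R φ ⊤ := by
    rw [← MonoidHom.map_zpowers, ha]
  refine lfs_eq_bot_of_map (f := (inl : G →* G ⋊[φ] zpowers σ)) inl_injective ?_
  by_contra h
  refine lfs_ne_bot hr (G := L φ ⊤) (a := inr a) (solvable_L (solvable_top_of hG))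
    (by rw [card_L_top]; exact Nat.coprime_comm.1 (hr.coprime_iff_not_dvd.2 hcop))
    (by rw [← map_pow, show a ^ r = 1 from Subtype.ext (by
      rw [← hσ]; exact pow_orderOf_eq_one σ), map_one]) h ?_
  have h1 : lfs C n = ⊥ := by
    have := congrArg (Subgroup.map C.subtype) hn
    rwa [map_lfs, ← MonoidHom.range_eq_map, range_subtype, Subgroup.map_bot] at this
  have h2 : fixed φ ≤ C := fun g hg => (hC g).2 (mem_fixed.1 hg a)
  rw [hR, L_inf_centralizer, top_inf_eq, L, ← map_lfs, eq_bot_iff.2 ((lfs_mono h2 n).trans h1.le),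
    Subgroup.map_bot]

end CfsgLib.H6T
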