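import Cfsg.Agent.Lib.H6T.NE

/-! # Fitting height and fixed points, part 4: a non-abelian critical subgroup -/

set_option autoImplicit false
set_option linter.unusedSectionVars false

namespace CfsgLib.H6T

open Module Subgroup Polynomial CfsgLib.H9 CfsgLib.Fpf Cfsg
open scoped commutatorElement

universe u v w

variable {k : Type u} [Field k] {V : Type v} [AddCommGroup V] [Module k V]
variable {Γ : Type w} [Group Γ] [Finite Γ] {ρ : Γ →* Module.End k V}

theorem commutator_le_fixSub_weight {R A : Subgroup Γ} {ψ : Γ → k}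
    (h : A ≤ stabSub ρ (weightSpace ρ R ψ)) : ⁅R, A⁆ ≤ fixSub ρ (weightSpace ρ R ψ) := by
  refine commutator_le.2 fun z hz b hb v hv => ?_
  have h1 := h (inv_mem hb) v hv
  have h2 : ρ z⁻¹ (ρ b⁻¹ v) ∈ weightSpace ρ R ψ := by
    rw [h1 _ (inv_mem hz)]; exact Submodule.smul_mem _ _ h1
  rw [commutatorElement_def, rho_mul_apply, rho_mul_apply, rho_mul_apply, h hb _ h2 z hz,
    ← map_smul, ← h2 z hz, rho_apply_inv_apply, rho_apply_inv_apply]

theorem stab_weight_of_normOp {R : Subgroup Γ} {ψ : Γ → k} {a : Γ} (hp : (orderOf a).Prime)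
    (ha : a ∈ normalizer (R : Set Γ)) {w : V} (hw : w ∈ weightSpace ρ R ψ) (hw0 : w ≠ 0)
    (h0 : normOp ρ (zpowers a) w = 0) : zpowers a ≤ stabSub ρ (weightSpace ρ R ψ) := by
  by_contra hcon
  refine hw0 (eq_zero_of_normOp_weight hw (zpowers_le.2 ha) (fun b hb hb1 => ?_) h0)
  by_contra h
  push Not at h
  refine hcon ?_
  rw [← zpowers_eq_of_prime hp hb hb1, ← zpowers_inv]
  exact zpowers_le.2 (weightSpace_invariant (inv_mem (zpowers_le.2 ha hb))
    fun r hr => by rw [inv_inv]; exact h r hr)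

theorem le_relCent_of_gen {F R H A : Subgroup Γ} (hA : A ≤ normalizer (F : Set Γ))
    (hF : H ≤ normalizer (F : Set Γ)) (hR : H ≤ normalizer (R : Set Γ)) (hgen : H ≤ ⁅H, A⁆)
    (h : ⁅R, A⁆ ≤ F) : ⁅R, H⁆ ≤ F := by
  rw [← le_relCent_iff hF]
  refine hgen.trans ?_
  rw [commutator_comm]
  exact (commutator_mono ((le_relCent_iff hA).2 h) le_rfl).trans
    (Cop.commutator_le_left_of_le_normalizer (le_normalizer_relCent hF hR))

theorem normOp_zpowers_sub (d : Γ) (v : V) : normOp ρ (zpowers d) ((ρ d - 1) v) = 0 :=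
  sub_mem_ker_normOp (mem_zpowers d) v

/-- a critical normal subgroup together with the lifted data -/
structure Crit (k : Type u) [Field k] (N T H M : Subgroup Γ) (a : Γ) (p q : ℕ) : Prop where
  pp : p.Prime
  pN : IsPGroup p N
  hq : (Nat.card N : k) ≠ 0
  comm : ⁅N, N⁆ ≤ T
  pow : ∀ g ∈ N, g ^ p ∈ T
  cen : T ≤ centralizer (N : Set Γ)
  ap : (orderOf a).Prime
  aN : a ∈ normalizer (N : Set Γ)
  aT : a ∈ normalizer (T : Set Γ)
  aH : a ∈ normalizer (H : Set Γ)
  aM : a ∈ normalizer (M : Set Γ)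
  cop : (orderOf a).Coprime p
  qq : q.Prime
  qH : IsPGroup q H
  qp : q ≠ p
  copH : (orderOf a).Coprime (Nat.card H)
  HN : H ≤ normalizer (N : Set Γ)
  HT : H ≤ centralizer (T : Set Γ)
  HM : H ≤ normalizer (M : Set Γ)
  gen : ⁅H, zpowers a⁆ = H
  TM : T ≤ M
  MN : M ≤ N
  fixM : M ⊓ centralizer (H : Set Γ) ≤ T

namespace Crit

variable {N T H M : Subgroup Γ} {a : Γ} {p q : ℕ} (C : Crit k N T H M a p q)
include C

theorem TN : T ≤ N := C.TM.trans C.MN

theorem solv : Group.IsSolvable N :=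
  have := Fact.mk C.pp
  Cop.solvable_of_isPGroup C.pN

theorem copA : (Nat.card (zpowers a)).Coprime (Nat.card N) :=
  have := Fact.mk C.pp
  Cop.coprime_card_of_isPGroup (by rw [Nat.card_zpowers]; exact C.cop) C.pN

theorem copHp : (Nat.card H).Coprime p := coprime_card_of_isPGroup_of_ne C.qq C.pp C.qp C.qH

theorem copHN : (Nat.card H).Coprime (Nat.card N) :=
  have := Fact.mk C.pp
  Cop.coprime_card_of_isPGroup C.copHp C.pN

theorem NT : N ≤ centralizer (T : Set Γ) := le_centralizer_iff.1 C.cen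

theorem sub_ne {K : Subgroup Γ} (h : K ≤ N) : (Nat.card K : k) ≠ 0 :=
  natCast_ne_zero_of_dvd (card_dvd_of_le h) C.hq

variable [IsAlgClosed k] [FiniteDimensional k V]

theorem na (hρ : Function.Injective ρ) {d : Γ} (hdM : d ∈ M) (had : Commute a d)
    (hdc : d ∉ centralizer (N : Set Γ)) :
    Mod1 ρ ⁅T, zpowers a⁆ a d True ∨ Mod1 ρ ⁅N, zpowers a⁆ a d True := by
  have := Fact.mk C.pp
  have := Fact.mk C.qq
  set A := zpowers a with hA
  have hAN : A ≤ normalizer (N : Set Γ) := zpowers_le.2 C.aN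
  have hAT : A ≤ normalizer (T : Set Γ) := zpowers_le.2 C.aT
  have hdN := C.MN hdM
  have hDN : zpowers d ≤ N := zpowers_le.2 hdN
  have hdk : (orderOf d : k) ≠ 0 := by rw [← Nat.card_zpowers]; exact C.sub_ne hDN
  have hZT : ⁅T, A⁆ ≤ T := Cop.commutator_le_left_of_le_normalizer hAT
  have hNZ : N ≤ centralizer ((⁅T, A⁆ : Subgroup Γ) : Set Γ) := C.NT.trans (centralizer_le hZT)
  have haZ : a ∈ normalizer ((⁅T, A⁆ : Subgroup Γ) : Set Γ) :=
    normalizer_commutator_ge_right _ _ (mem_zpowers a)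
  set Z := ⁅T, A⁆ with hZ
  by_cases hβ : LinearMap.ker (normOp ρ Z) ⊓ LinearMap.ker (normOp ρ (zpowers d)) = ⊥
  swap
  · left
    refine mod1_of (Z := ⊥) (C.sub_ne (hZT.trans C.TN)) (by simp) hdk haZ (mem_normalizer_bot _) had
      (centralizer_le_normalizer _ (hNZ hdN)) (mem_normalizer_bot _) (fun x _ => mem_normalizer_bot x)
      (Cop.commutator_eq_bot_iff_le_centralizer'.2 (hDN.trans hNZ)).le ?_
    by_contra hcon
    push Not at hcon
    refine hβ (frob_eq_bot C.ap haZ (Cop.commutator_inf_centralizer_eq_bot hAT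
      (C.copA.coprime_dvd_right (card_dvd_of_le C.TN)) ⟨⟨fun x y => Subtype.ext (C.cen y.2 x (C.TN x.2))⟩⟩)
      (C.sub_ne (hZT.trans C.TN)) (fun z hz => stab_inf ⟨stab_ker_normOp (le_normalizer hz),
        stab_ker_normOp (mem_normalizer_zpowers (hNZ hdN z hz))⟩)
      (stab_inf ⟨stab_ker_normOp haZ, stab_ker_normOp (mem_normalizer_zpowers had)⟩)
      (fun v hv => hv.1) fun v hv => hcon v (fun z hz => by rw [mem_bot.1 hz]; simp) hv.1 hv.2)
  right
  have hH'N : ⁅N, A⁆ ≤ N := Cop.commutator_le_left_of_le_normalizer hAN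
  have hNH' : N ≤ normalizer ((⁅N, A⁆ : Subgroup Γ) : Set Γ) := normalizer_commutator_ge_left _ _
  have hNZ' := hNZ.trans (centralizer_le_normalizer _)
  have hH'D : ⁅⁅N, A⁆, zpowers d⁆ ≤ Z := by
    refine CommCalc.three_subgroups hNZ' (zpowers_le.2 haZ) (hDN.trans hNZ') ?_
      (commutator_mono ((commutator_mono hDN le_rfl).trans C.comm) le_rfl)
    rw [Cop.commutator_eq_bot_iff_le_centralizer'.2 (zpowers_le.2
      (mem_centralizer_zpowers_iff.2 had)), commutator_bot_left]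
    exact bot_le
  refine mod1_of (Z := Z) (C.sub_ne hH'N) (C.sub_ne (hZT.trans C.TN)) hdk
    (normalizer_commutator_ge_right _ _ (mem_zpowers a)) haZ had (hNH' hdN) (hNZ' hdN)
    (hH'N.trans hNZ') hH'D ?_
  set H' := ⁅N, A⁆ with hH'
  by_contra h0
  push Not at h0
  obtain ⟨g₀, hg₀, hdg⟩ : ∃ g ∈ N, ⁅d, g⁆ ≠ 1 := by
    by_contra h
    push Not at h
    exact hdc (mem_centralizer_iff_commutator.2 h)
  have ht₀ := C.comm (commutator_mem_commutator hdN hg₀)
  obtain ⟨U₁, θ, h1, hU₁, -, h2⟩ := exists_central_weight (ρ := ρ) C.TN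
    (ker_normOp_ne_bot (H := zpowers ⁅d, g₀⁆) ⟨_, mem_zpowers _, fun h => hdg (hρ (by rw [h, map_one]))⟩)
    (fun g hg => stab_ker_normOp (mem_normalizer_zpowers (C.cen ht₀ g hg)))
    ((commutator_eq_bot_iff_le_centralizer.2 C.cen).le.trans bot_le)
  obtain ⟨v₁, hv₁, hv₁0⟩ := (Submodule.ne_bot_iff U₁).1 hU₁
  have hθ : θ ⁅d, g₀⁆ ≠ 1 := fun h => hv₁0 (eq_zero_of_mem_ker_normOp
    (C.sub_ne (zpowers_le.2 (C.TN ht₀))) (h1 hv₁)
    (fixed_zpowers (by rw [h2 hv₁ _ ht₀, h, one_smul])))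
  set Vθ := weightSpace ρ T θ with hVθ
  have hV0 : Vθ ≠ ⊥ := fun h => hU₁ (eq_bot_iff.2 (h2.trans h.le))
  have hcV : centralizer (T : Set Γ) ≤ stabSub ρ Vθ := fun y hy =>
    weightSpace_invariant (centralizer_le_normalizer _ hy) fun r hr => by
      rw [← hy r hr, mul_inv_cancel_right]
  have hNV := C.NT.trans hcV
  have hHV := C.HT.trans hcV
  have c1 : ∀ W : Submodule k V, W ≤ Vθ → W ≠ ⊥ → N ≤ stabSub ρ W → W.map (ρ d - 1) ≠ ⊥ := by
    intro W h1 h2 h3 h4
    obtain ⟨w, hw, hw0⟩ := (Submodule.ne_bot_iff W).1 h2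
    have h5 := Cop.commutator_le_left_of_le_normalizer (h3.trans stab_le_normalizer_fixSub)
      (commutator_mem_commutator (mem_fixSub_of_map_sub_one h4) hg₀) w hw
    rw [h1 hw _ ht₀] at h5
    exact hθ (smul_left_injective k hw0 (h5.trans (one_smul k w).symm))
  have c2 : Z ≤ fixSub ρ Vθ := by
    intro z hz
    by_contra hcon
    have h3 : θ z ≠ 1 := fun h => hcon fun v hv => by rw [hv z (hZT hz), h, one_smul]
    refine c1 Vθ le_rfl hV0 hNV (eq_bot_iff.2 (le_trans (fun w hw => ?_) hβ.le))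
    have hw' := map_sub_one_le (hNV hdN) hw
    obtain ⟨v, -, rfl⟩ := hw
    refine ⟨?_, normOp_zpowers_sub d v⟩
    have h4 := sub_mem_ker_normOp (ρ := ρ) hz ((ρ d - 1) v)
    rw [hw' z (hZT hz)] at h4
    exact (Submodule.smul_mem_iff _ (sub_ne_zero.2 h3)).1 (by rwa [sub_smul, one_smul])
  have hAV : A ≤ stabSub ρ Vθ := fun b hb v hv t ht => by
    rw [rho_comm_of_fix (c2 (commutator_mem_commutator (inv_mem ht) (inv_mem hb)) v hv), hv t ht,
      map_smul]
  set F := fixSub ρ Vθ with hF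
  have hNF : N ≤ normalizer (F : Set Γ) := hNV.trans stab_le_normalizer_fixSub
  have hHF : H ≤ normalizer (F : Set Γ) := hHV.trans stab_le_normalizer_fixSub
  have hAF : A ≤ normalizer (F : Set Γ) := hAV.trans stab_le_normalizer_fixSub
  set R := N ⊓ CommCalc.relCent F N with hR
  have hRN : R ≤ N := inf_le_left
  have hTR : T ≤ R := fun t ht => ⟨C.TN ht, hNF (C.TN ht), fun g hg => by
    rw [mem_centralizer_iff_commutator.1 (C.cen ht) g hg]; exact one_mem _⟩
  have hdR : d ∉ R := fun h => hθ (smul_left_injective k hv₁0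
    ((h2 hv₁ _ ht₀).symm.trans ((h.2.2 g₀ hg₀ v₁ (h2 hv₁)).trans (one_smul k v₁).symm)))
  have hRNF : ⁅R, N⁆ ≤ F := commutator_le.2 fun r hr g hg => hr.2.2 g hg
  have hnR : ∀ B : Subgroup Γ, B ≤ normalizer (N : Set Γ) → B ≤ normalizer (F : Set Γ) →
      B ≤ normalizer (R : Set Γ) := fun B h1 h2 x hx =>
    inf_normalizer_le_normalizer_inf ⟨h1 hx, le_normalizer_relCent h2 h1 hx⟩
  have hAR := hnR A hAN hAF
  have hHR := hnR H C.HN hHF
  by_cases hγ : ⁅R, A⁆ ≤ F
  swap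
  · obtain ⟨h, hh, hhF⟩ := SetLike.not_le_iff_exists.1 hγ
    have hhR := Cop.commutator_le_left_of_le_normalizer hAR hh
    have hle := map_sub_one_le (hNV (hRN hhR))
    obtain ⟨W, ψ, h3, h4, h5, h6⟩ := exists_central_weight (ρ := ρ) hRN (U₀ := Vθ.map (ρ h - 1))
      (fun h' => hhF (mem_fixSub_of_map_sub_one h'))
      (fun g hg => stab_map_sub_one (hNV hg) fun v hv => rho_comm_of_fix
        (hRNF (comm_mem_iff.1 (commutator_mem_commutator (inv_mem hhR) (inv_mem hg))) v hv))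
      (fun x hx v hv => hRNF hx v (hle hv))
    obtain ⟨w, hw, hw0⟩ := (Submodule.ne_bot_iff _).1 (c1 W (h3.trans hle) h4 h5)
    have hwW := map_sub_one_le (h5 d hdN) hw
    have h7 : normOp ρ (zpowers h) w = 0 := by
      obtain ⟨v, -, rfl⟩ := h3 hwW
      exact normOp_zpowers_sub h v
    have hhk := C.sub_ne (zpowers_le.2 (hRN hhR))
    have h8 := h0 w (fun z hz => c2 hz w (hle (h3 hwW)))
      (normOp_eq_zero_of_le (zpowers_le.2 (commutator_mono hRN le_rfl hh)) hhk h7)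
      (by obtain ⟨v, -, rfl⟩ := hw; exact normOp_zpowers_sub d v)
    exact hw0 (eq_zero_of_mem_ker_normOp hhk h7 (fixed_zpowers (commutator_le_fixSub_weight
      (stab_weight_of_normOp C.ap (hAR (mem_zpowers a)) (h6 hwW) hw0 h8) hh w (h6 hwW))))
  have hRH := le_relCent_of_gen hAF hHF hHR C.gen.ge hγ
  obtain ⟨W, ψ, h3, h4, -, h6⟩ := exists_central_weight (ρ := ρ) hRN hV0 (fun g hg => hNV hg) hRNF
  set U := Vθ ⊓ weightSpace ρ R ψ with hU
  have hU0 : U ≠ ⊥ := fun h => h4 (eq_bot_iff.2 ((le_inf h3 h6).trans h.le))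
  have hsU : ∀ B : Subgroup Γ, B ≤ stabSub ρ Vθ → ⁅R, B⁆ ≤ F → B ≤ stabSub ρ U :=
    fun B h1 h2 y hy v hv => ⟨h1 hy v hv.1, fun z hz => by
      rw [rho_comm_of_fix (h2 (commutator_mem_commutator (inv_mem hz) (inv_mem hy)) v hv.1),
        hv.2 z hz, map_smul]⟩
  have hNU := hsU N hNV hRNF
  have hAU := hsU A hAV hγ
  have hHU := hsU H hHV hRH
  have P : Pack ρ N R ψ U := by
    refine ⟨hRN, hU0, fun g hg => hNU hg, fun r hr v hv => hv.2 r hr,
      fun g hg h hh => hTR (C.comm (commutator_mem_commutator hg hh)),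
      fun g hg h => ⟨hg, hNF hg, fun x hx v hv => ?_⟩⟩
    obtain ⟨w, hw, hw0⟩ := (Submodule.ne_bot_iff _).1 hU0
    have ht := C.comm (commutator_mem_commutator hg hx)
    rw [hv _ ht, smul_left_injective k hw0 ((hw.1 _ ht).symm.trans (hw.2 _ (hTR ht))), h x hx,
      one_smul]
  suffices h : ⁅N, H⁆ ≤ R from hdR ((Cop.commutator_sup_centralizer C.HM
    (C.copHN.coprime_dvd_right (card_dvd_of_le C.MN)) (Or.inr (isSolvable_of_le C.solv C.MN))).ge.trans
    (sup_le ((commutator_mono C.MN le_rfl).trans h) (C.fixM.trans hTR)) hdM)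
  by_cases hne : H' ≤ R
  · exact le_relCent_of_gen hAR hHR C.HN C.gen.ge hne
  have P₂ := sub_pack P hAN hAU C.copA C.solv
  have hle₂ : H' ⊔ R ≤ N := sup_le hH'N hRN
  have hWU := map_sub_one_le (hNU hdN)
  have P₃ := P₂.mono hWU (c1 U inf_le_left hU0 hNU) (show _ ≤ stabSub ρ _ from sup_le
    (fun g hg => stab_map_sub_one (hNU (hH'N hg)) fun v hv => rho_comm_of_fix
      (c2 (hH'D (commutator_mem_commutator (inv_mem hg) (inv_mem (mem_zpowers d)))) v hv.1))
    fun r hr v hv => by rw [P.scal r hr v (hWU hv)]; exact Submodule.smul_mem _ _ hv)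
  have h7 : U ⊓ fixSpace ρ H' = ⊥ := by
    by_contra h
    exact hne fun g hg => pack_ker_le (P₂.mono inf_le_left h fun g hg =>
      stab_inf ⟨hNU (hle₂ hg), stab_fixSpace (hNH' (hle₂ hg))⟩)
      ⟨mem_sup_left hg, fun v hv => hv.2 g hg⟩
  obtain ⟨N₁, hN₁, hN₁a⟩ := pack_prime P₃ (C.sub_ne hle₂) C.ap
    (zpowers_le.1 (le_normalizer_sup (normalizer_commutator_ge_right _ _) hAR))
    (stab_map_sub_one (hAU (mem_zpowers a)) fun v _ => rho_comm_of_commute had v)
    (fun g hg h => sub_fpf P hAN hAU C.copA hg fun b hb =>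
      commutator_mem_of_mem_zpowers (hAR (mem_zpowers a)) h hb)
    (fun w hw => h0 w (fun z hz => c2 hz w (hWU hw).1)
      ((Submodule.mem_bot k).1 (h7.le ⟨normOp_mem (hH'N.trans hNU) (hWU hw),
        fun g hg => normOp_fixed hg w⟩))
      (by obtain ⟨v, -, rfl⟩ := hw; exact normOp_zpowers_sub d v))
    fun h => hne (le_sup_left.trans h.ge)
  rw [← C.gen]
  exact ne_lemma P C.hq C.pN (fun g hg => hTR (C.pow g hg)) C.ap C.aN (hAU (mem_zpowers a)) C.cop
    hN₁ hN₁a H (Cop.solvable_of_isPGroup C.qH) C.HN hHU C.aH C.copHp C.copH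

end Crit

end CfsgLib.H6T
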