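import Cfsg.Agent.Lib.H6T.Branch

/-! # Fitting height and fixed points, part 3: the exceptional case does not occur -/

set_option autoImplicit false
set_option linter.unusedSectionVars false

namespace CfsgLib.H6T

open Module Subgroup Polynomial CfsgLib.H9 CfsgLib.Fpf Cfsg
open scoped commutatorElement

universe u v w

variable {k : Type u} [Field k] {V : Type v} [AddCommGroup V] [Module k V]
variable {Γ : Type w} [Group Γ] [Finite Γ] {ρ : Γ →* Module.End k V}
variable [IsAlgClosed k] [FiniteDimensional k V] {Q R : Subgroup Γ} {ψ : Γ → k} {U : Submodule k V}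

theorem pack_commute_le' (P : Pack ρ Q R ψ U) (hq : (Nat.card Q : k) ≠ 0)
    (hs : Group.IsSolvable Q) {a x : Γ}
    (hp : (orderOf a).Prime) (h1 : a ∈ normalizer (Q : Set Γ)) (h2 : a ∈ stabSub ρ U)
    (hf : ∀ g ∈ Q, ⁅g, a⁆ ∈ R → g ∈ R) {N : ℕ} (hN : N ^ 2 = R.relIndex Q)
    (hNa : N + 1 = orderOf a)
    (h3 : x ∈ normalizer (Q : Set Γ)) (h4 : x ∈ stabSub ρ U) (hc : Commute x a)
    (hxa : (orderOf x).Coprime (orderOf a)) (hxQ : (orderOf x).Coprime (Nat.card Q)) :
    ⁅Q, zpowers x⁆ ≤ R := by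
  by_contra hne
  have hx1 := zpowers_le.2 h3
  have hx2 := zpowers_le.2 h4
  have hcop : (Nat.card (zpowers x)).Coprime (Nat.card Q) := by rwa [Nat.card_zpowers]
  have P' := sub_pack P hx1 hx2 hcop hs
  have hle : ⁅Q, zpowers x⁆ ⊔ R ≤ Q := sup_le (Cop.commutator_le_left_of_le_normalizer hx1) P.le
  have hne' : R ≠ ⁅Q, zpowers x⁆ ⊔ R := fun h => hne (le_sup_left.trans h.ge)
  have hy := P.mem_normalizer (mul_mem h3 h1) (mul_mem h4 h2)
  obtain ⟨N', hN', h, -⟩ := P'.numerics (natCast_ne_zero_of_dvd (card_dvd_of_le hle) hq)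
    (zpowers_le.1 (le_normalizer_sup (Cop.le_normalizer_commutator (zpowers_le.2 (mul_mem h3 h1))
      (zpowers_le.2 (mem_normalizer_zpowers ((Commute.refl x).mul_left hc.symm))))
      (zpowers_le.2 hy)))
    (mul_mem h4 h2) (h := orderOf a + 1) (by have := hp.pos; omega) fun i hi0 hi g hg hgi => by
      rcases (Nat.lt_succ_iff.1 hi).eq_or_lt with rfl | hi'
      · refine sub_fpf P hx1 hx2 hcop hg fun d hd =>
          commutator_mem_of_mem_zpowers (pow_mem hy _) hgi (zpowers_le.2 ?_ hd)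
        rw [hc.mul_pow, pow_orderOf_eq_one, mul_one]
        exact mem_zpowers_pow_iff.2 hxa.symm.gcd_eq_one
      · exact hf g (hle hg) (commutator_mem_of_mem_zpowers (pow_mem hy _) hgi
          (right_mem_zpowers_pow hc hxa (Nat.coprime_comm.1 (hp.coprime_iff_not_dvd.2
            (Nat.not_dvd_of_pos_of_lt hi0 hi')))))
  have h5 : N' ^ 2 ≤ N ^ 2 := by
    rw [hN, hN']; exact relIndex_le_of_le_right hle index_ne_zero_of_finite
  have := (Nat.pow_le_pow_iff_left two_ne_zero).1 h5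
  have := h hne'
  omega

theorem ne_lemma (P : Pack ρ Q R ψ U) (hq : (Nat.card Q : k) ≠ 0) {p : ℕ} [hp' : Fact p.Prime]
    (hQ : IsPGroup p Q) (hpow : ∀ g ∈ Q, g ^ p ∈ R) {a : Γ} (hp : (orderOf a).Prime)
    (haQ : a ∈ normalizer (Q : Set Γ)) (haU : a ∈ stabSub ρ U) (hap : (orderOf a).Coprime p)
    {N : ℕ} (hN : N ^ 2 = R.relIndex (⁅Q, zpowers a⁆ ⊔ R)) (hNa : N + 1 = orderOf a)
    (L : Subgroup Γ) : Group.IsSolvable L → L ≤ normalizer (Q : Set Γ) → L ≤ stabSub ρ U →
      a ∈ normalizer (L : Set Γ) → (Nat.card L).Coprime p → (orderOf a).Coprime (Nat.card L) →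
      ⁅Q, ⁅L, zpowers a⁆⁆ ≤ R := by
  induction L using (wellFounded_lt (α := Subgroup Γ)).induction with
  | _ L ih =>
  intro hs hLQ hLU haL hLp hLa
  set A := zpowers a with hA
  have hAQ : A ≤ normalizer (Q : Set Γ) := zpowers_le.2 haQ
  have hAU : A ≤ stabSub ρ U := zpowers_le.2 haU
  have hAL : A ≤ normalizer (L : Set Γ) := zpowers_le.2 haL
  have hAp : (Nat.card A).Coprime p := by rwa [hA, Nat.card_zpowers]
  have hcA : (Nat.card A).Coprime (Nat.card L) := by rwa [hA, Nat.card_zpowers]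
  have ih' : ∀ L' < L, A ≤ normalizer (L' : Set Γ) → ⁅Q, ⁅L', A⁆⁆ ≤ R := fun L' h1 h2 =>
    ih L' h1 (isSolvable_of_le hs h1.le) (h1.le.trans hLQ) (h1.le.trans hLU) (h2 (mem_zpowers a))
      (hLp.coprime_dvd_left (card_dvd_of_le h1.le)) (hLa.coprime_dvd_right (card_dvd_of_le h1.le))
  rcases (Cop.commutator_le_left_of_le_normalizer hAL).lt_or_eq with h | hL
  · rw [← Cop.commutator_commutator_eq hAL hcA]
    exact ih' _ h (normalizer_commutator_ge_right _ _)
  rw [hL]
  by_cases h0 : L = ⊥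
  · rw [h0, commutator_bot_right]; exact bot_le
  have hsQ := Cop.solvable_of_isPGroup hQ
  have hcAQ := Cop.coprime_card_of_isPGroup hAp hQ
  have hcLQ := Cop.coprime_card_of_isPGroup hLp hQ
  have hL' : ⁅L, L⁆ < L := by
    have := (nontrivial_iff_ne_bot L).2 h0
    rw [← map_subtype_commutator]
    refine lt_of_le_of_ne (map_subtype_le _) fun h =>
      (Group.IsSolvable.commutator_lt_top_of_nontrivial L).ne (map_injective L.subtype_injective ?_)
    rw [h, ← MonoidHom.range_eq_map, range_subtype]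
  have hAL' := Cop.le_normalizer_commutator hAL hAL
  have hQR := pack_le_normalizer P le_normalizer (pack_le_stab P)
  have hLR := pack_le_normalizer P hLQ hLU
  have hAR := pack_le_normalizer P hAQ hAU
  have h1 := ih' _ hL' hAL'
  have P₂ := sub_pack P hAQ hAU hcAQ hsQ
  have hle₂ : ⁅Q, A⁆ ⊔ R ≤ Q := sup_le (Cop.commutator_le_left_of_le_normalizer hAQ) P.le
  have h2 : ⁅⁅Q, A⁆ ⊔ R, ⁅L, L⁆⁆ ≤ R := by
    rw [← Cop.commutator_sup_centralizer hAL' (hcA.coprime_dvd_right (card_dvd_of_le hL'.le))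
      (Or.inl inferInstance)]
    refine CommCalc.commutator_sup_right_le
      (((Cop.commutator_le_left_of_le_normalizer hAL').trans hL'.le).trans hLR)
      ((inf_le_left.trans hL'.le).trans hLR) ((commutator_mono hle₂ le_rfl).trans h1)
      (commutator_le.2 fun g hg c hc => ?_)
    have hcL := hL'.le hc.1
    exact pack_commute_le' P₂ (natCast_ne_zero_of_dvd (card_dvd_of_le hle₂) hq)
      (isSolvable_of_le hsQ hle₂) hp
      (zpowers_le.1 (le_normalizer_sup (normalizer_commutator_ge_right _ _) hAR)) haU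
      (fun g hg h => sub_fpf P hAQ hAU hcAQ hg fun d hd =>
        commutator_mem_of_mem_zpowers (hAR (mem_zpowers a)) h hd) hN hNa
      (zpowers_le.1 (le_normalizer_sup (Cop.le_normalizer_commutator (zpowers_le.2 (hLQ hcL))
        (zpowers_le.2 (centralizer_le_normalizer _ hc.2))) (zpowers_le.2 (hLR hcL))))
      (hLU hcL) (commute_of_mem_centralizer_zpowers hc.2)
      (hLa.symm.coprime_dvd_left (orderOf_dvd_natCard L hcL))
      ((hcLQ.coprime_dvd_left (orderOf_dvd_natCard L hcL)).coprime_dvd_right (card_dvd_of_le hle₂))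
      (commutator_mem_commutator hg (mem_zpowers c))
  have hL'Q := hL'.le.trans hLQ
  have h3 : ⁅⁅Q, ⁅L, L⁆⁆ ⊔ R, A⁆ ≤ R := by
    refine CommCalc.commutator_sup_left_le
      ((Cop.commutator_le_left_of_le_normalizer hL'Q).trans hQR) le_normalizer
      (CommCalc.three_subgroups hQR (hL'.le.trans hLR) hAR ?_ ?_)
      (Cop.commutator_le_left_of_le_normalizer hAR)
    · rwa [commutator_comm]
    · rw [commutator_comm A]; exact (commutator_mono le_sup_left le_rfl).trans h2
  have h4 : ⁅⁅Q, ⁅L, L⁆⁆ ⊔ R, L⁆ ≤ R := by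
    rw [← le_relCent_iff hLR]
    refine hL.ge.trans ?_
    rw [commutator_comm]
    exact (commutator_mono ((le_relCent_iff hAR).2 h3) le_rfl).trans
      (Cop.commutator_le_left_of_le_normalizer (le_normalizer_relCent hLR (le_normalizer_sup
        (Cop.le_normalizer_commutator hLQ (normalizer_commutator_ge_left _ _)) hLR)))
  have h5 : ⁅Q, ⁅L, L⁆⁆ ≤ R := by
    rw [← Cop.commutator_commutator_eq hL'Q (hcLQ.coprime_dvd_left (card_dvd_of_le hL'.le))]
    exact (commutator_mono le_sup_left hL'.le).trans h4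
  have P₄ := sub_pack P hLQ hLU hcLQ hsQ
  have hle₄ : ⁅Q, L⁆ ⊔ R ≤ Q := sup_le (Cop.commutator_le_left_of_le_normalizer hLQ) P.le
  have hfp := fun g => sub_fpf P hLQ hLU hcLQ (g := g)
  have hAM := le_normalizer_sup (Cop.le_normalizer_commutator hAQ hAL) hAR
  have hLM := le_normalizer_sup (normalizer_commutator_ge_right Q L) hLR
  set M := ⁅Q, L⁆ ⊔ R with hM
  have hcAM := hcAQ.coprime_dvd_right (card_dvd_of_le hle₄)
  have hsM := isSolvable_of_le hsQ hle₄
  have P₅ := fix_pack P₄ hAM hAU hcAM hsM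
  have hle₅ : M ⊓ centralizer (A : Set Γ) ⊔ R ≤ M := sup_le inf_le_left P₄.le
  have h6 := relIndex_eq_pow_of_free p P₄.le (pack_commutator_le P₄) (fun g hg => hpow g (hle₄ hg))
    hLM hLR hAM hAR hAL hLp hAp ((commutator_mono hle₄ le_rfl).trans h5)
    (fun b hb hb1 g hg h => hfp g hg fun d hd => comm_mem_iff.1 (h d (by
      rwa [zpowers_eq_of_prime hp hb hb1, hL]))) le_sup_right hle₅
    fun m hm => mem_fix_iff hAR P₄.le (hle₄.trans hQR)
      (hcAM.coprime_dvd_right (card_dvd_of_le P₄.le)) (isSolvable_of_le hsM P₄.le) hm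
  have h7 := relIndex_fix_le hAM P₄.le (pack_commutator_le P₄) hcAM hsM
  have h8 : R.relIndex (⁅M, A⁆ ⊔ R) ≤ N ^ 2 := by
    rw [hN]
    exact relIndex_le_of_le_right (sup_le_sup_right (commutator_mono hle₄ le_rfl) _)
      index_ne_zero_of_finite
  obtain ⟨N₁, hN₁⟩ := P₅.exists_sq (natCast_ne_zero_of_dvd (card_dvd_of_le (hle₅.trans hle₄)) hq)
  obtain ⟨d, rfl⟩ := exists_pow_of_sq_eq_relIndex (hQ.to_le (hle₅.trans hle₄)) hN₁
  rw [← hN₁, hA, Nat.card_zpowers, ← hNa] at h6
  rw [← hN₁, h6, pow_succ'] at h7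
  have h9 := Nat.le_of_mul_le_mul_left (h7.trans (Nat.mul_le_mul_left _ h8))
    (pow_pos (pow_pos hp'.out.pos d) 2)
  rcases Nat.eq_zero_or_pos d with rfl | hd
  · simp only [pow_zero, one_pow] at h6
    exact le_sup_left.trans (relIndex_eq_one.1 h6)
  · rw [← pow_mul, ← pow_mul, ← mul_assoc, mul_comm] at h9
    exact absurd h9 (sq_lt_pow hp'.out.two_le (by omega)).not_ge

end CfsgLib.H6T
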