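import Cfsg.Agent.Lib.H6T.Crit

/-! # Fitting height and fixed points, part 7: the induction step -/

set_option autoImplicit false
set_option linter.unusedSectionVars false

namespace CfsgLib.H6T

open Module Subgroup Polynomial CfsgLib.H9 CfsgLib.Fpf Cfsg
open scoped commutatorElement

universe u v w u' v' w'

section defs
variable {k : Type u} [Field k] {V : Type v} [AddCommGroup V] [Module k V]
variable {Γ : Type w} [Group Γ] [Finite Γ]

/-- fixed points normalizing `H` -/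
abbrev Dn (G : Subgroup Γ) (a : Γ) (H : Subgroup Γ) : Subgroup Γ :=
  G ⊓ centralizer ((zpowers a : Subgroup Γ) : Set Γ) ⊓ normalizer (H : Set Γ)

/-- the module part of the third state -/
def ModC (ρ : Γ →* Module.End k V) (H X : Subgroup Γ) (a : Γ) : Prop :=
  ∃ M : Submodule k V, Rat ρ M ∧ H ≤ stabSub ρ M ∧ a ∈ stabSub ρ M ∧ X ≤ stabSub ρ M ∧
    (∀ v ∈ M, (∀ h ∈ H, ρ h v = v) → v = 0) ∧
    ∃ v ∈ M, ∃ x ∈ X, ρ x (normOp ρ (zpowers a) v) ≠ normOp ρ (zpowers a) v

def St0 (k : Type u) [Field k] (G : Subgroup Γ) (a : Γ) (n : ℕ) : Prop :=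
  ∃ (p : ℕ) (P : Subgroup Γ), p.Prime ∧ IsPGroup p P ∧ (p : k) ≠ 0 ∧ P ≠ ⊥ ∧
    P ≤ lfs (Dn G a P) n ∧ (1 ≤ n → P ≤ ⁅P, lfs (Dn G a P) (n - 1)⁆)

def St1 (ρ : Γ →* Module.End k V) (G : Subgroup Γ) (a : Γ) (n : ℕ) : Prop :=
  ∃ (q : ℕ) (H : Subgroup Γ), q.Prime ∧ IsPGroup q H ∧ (q : k) ≠ 0 ∧ H ≤ lfs G n ∧
    a ∈ normalizer (H : Set Γ) ∧ ⁅H, zpowers a⁆ = H ∧
    ((∃ d ∈ lfs (Dn G a H) (n - 2), (orderOf d : k) ≠ 0 ∧ Mod1 ρ H a d (2 ≤ n)) ∨
      ∃ X ≤ lfs (Dn G a H) (n - 1), ⁅H, X⁆ = H ∧ ModC ρ H X a)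

theorem card_ne_zero_of_isPGroup {p : ℕ} [Fact p.Prime] {P : Subgroup Γ} (hP : IsPGroup p P)
    (hp : (p : k) ≠ 0) : (Nat.card P : k) ≠ 0 := by
  obtain ⟨j, hj⟩ := hP.exists_card_eq
  rw [hj, Nat.cast_pow]; exact pow_ne_zero _ hp

theorem le_lfs_of_commutator {D J X : Subgroup Γ} {n : ℕ} (hJ : J ≤ D) (hX : X ≤ lfs D n) :
    ⁅J, X⁆ ≤ lfs D n := by
  rw [commutator_comm]
  exact (commutator_mono hX le_rfl).trans (Cop.commutator_le_left_of_le_normalizer
    ((hJ.trans le_normalizer).trans (normalizer_le_normalizer_lfs D n)))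

theorem le_lfs_succ {D J X : Subgroup Γ} {n : ℕ} (hJ : J ≤ D) (hX : X ≤ lfs D n)
    (h : J ≤ ⁅J, X⁆) : J ≤ lfs D (n + 1) :=
  le_res_of_le_commutator (h.trans (le_lfs_of_commutator hJ hX))
    (h.trans (commutator_mono le_rfl hX))

end defs

variable {Γ : Type w} [Group Γ] [Finite Γ] {Γ' : Type w'} [Group Γ'] [Finite Γ']
  {k' : Type u'} [Field k'] {W : Type v'} [AddCommGroup W] [Module k' W]

/-- the situation of the induction step -/
structure Ctx (G N T : Subgroup Γ) (a : Γ) (r p n : ℕ) (π : Γ →* Γ')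
    (σ : Γ' →* Module.End k' W) (ι : Γ → W) : Prop where
  nG : G.Normal
  sG : Group.IsSolvable G
  rp : r.Prime
  ar : a ^ r = 1
  cop : (Nat.card G).Coprime r
  pp : p.Prime
  nN : N.Normal
  nT : T.Normal
  pN : IsPGroup p N
  NY : N ≤ lfs G (n + 1)
  comm : ⁅N, N⁆ ≤ T
  pow : ∀ g ∈ N, g ^ p ∈ T
  cen : T ≤ centralizer (N : Set Γ)
  min : ∀ Q : Subgroup Γ, Q.Normal → Q ≤ N → Q = N ∨ Q ≤ T
  cenY : ∀ y ∈ lfs G n, (orderOf y).Coprime p → y ∈ centralizer (T : Set Γ)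
  sec : SecRep p (MonoidHom.id Γ) N T (σ.comp π) ι
  surj : Function.Surjective π
  inj : Function.Injective σ
  char : (p : k') = 0

namespace Ctx

variable {G N T : Subgroup Γ} {a : Γ} {r p n : ℕ} {π : Γ →* Γ'} {σ : Γ' →* Module.End k' W}
  {ι : Γ → W} (c : Ctx G N T a r p n π σ ι)
include c

theorem NG : N ≤ G := c.NY.trans (lfs_le _ _)

theorem copa : (orderOf a).Coprime (Nat.card G) :=
  c.cop.symm.coprime_dvd_left (orderOf_dvd_of_pow_eq_one c.ar)

theorem copA : (Nat.card (zpowers a)).Coprime (Nat.card G) := by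
  rw [Nat.card_zpowers]; exact c.copa

theorem ap (h : a ≠ 1) : (orderOf a).Prime := by
  have := Fact.mk c.rp
  rw [orderOf_eq_prime c.ar h]; exact c.rp

theorem coprime_of_ne {m : ℕ} (h : (m : k') ≠ 0) : m.Coprime p := by
  rw [Nat.coprime_comm, c.pp.coprime_iff_not_dvd]
  rintro ⟨j, rfl⟩
  exact h (by rw [Nat.cast_mul, c.char, zero_mul])

theorem ker_iff {g : Γ} : π g = 1 ↔ ∀ m ∈ N, ⁅g, m⁆ ∈ T := by
  refine Iff.trans ?_ (c.sec.rho_eq_one_iff g)
  exact ⟨fun h => by rw [MonoidHom.comp_apply, h, map_one],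
    fun h => c.inj (h.trans (map_one σ).symm)⟩

theorem cenT {U : Subgroup Γ} (hU : U ≤ lfs G n) (h : (Nat.card U).Coprime p) :
    U ≤ centralizer (T : Set Γ) :=
  fun y hy => c.cenY y (hU hy) (h.coprime_dvd_left (orderOf_dvd_natCard U hy))

theorem ker_cen {U : Subgroup Γ} (hU : U ≤ lfs G n) (h : (Nat.card U).Coprime p) :
    U ⊓ π.ker ≤ centralizer (N : Set Γ) := by
  have := Fact.mk c.pp
  rw [← Cop.commutator_eq_bot_iff_le_centralizer']
  exact Cop.commutator_eq_bot_of_le_of_centralizes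
    (commutator_le.2 fun m hm g hg => comm_mem_iff.1 (c.ker_iff.1 hg.2 m hm))
    (Cop.commutator_eq_bot_iff_le_centralizer'.2 (inf_le_left.trans (c.cenT hU h)))
    (Cop.coprime_card_of_isPGroup (h.coprime_dvd_left (card_dvd_of_le inf_le_left))
      (c.pN.to_le c.sec.le))

omit c in
theorem le_sup_ker {U K : Subgroup Γ} (hKU : K ≤ U) (h : U.map π ≤ K.map π) : U ≤ K ⊔ U ⊓ π.ker := by
  intro u hu
  obtain ⟨y, hy, h1⟩ := h (mem_map_of_mem π hu)
  rw [← mul_inv_cancel_left y u]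
  exact mul_mem (mem_sup_left hy) (mem_sup_right ⟨U.mul_mem (U.inv_mem (hKU hy)) hu, by
    change π _ = 1
    rw [map_mul, map_inv, h1, inv_mul_cancel]⟩)

theorem lift {q : ℕ} [Fact q.Prime] {H' : Subgroup Γ'} (hH : IsPGroup q H')
    (hHY : H' ≤ lfs (G.map π) n) (hA : π a ∈ normalizer (H' : Set Γ')) :
    ∃ S : Subgroup Γ, S ≤ lfs G n ∧ IsPGroup q S ∧ a ∈ normalizer (S : Set Γ) ∧ S.map π = H' ∧
      (∀ m, lfs (Dn (G.map π) (π a) H') m ≤ (lfs (Dn G a S) m).map π) ∧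
      ∀ U : Subgroup Γ, U ≤ lfs G n → IsPGroup q U → U.map π ≤ H' → U ≤ normalizer (S : Set Γ) →
        U ≤ S := by
  have := c.nG
  have := lfs_normal G n
  obtain ⟨S, h1, h2, h3, h4, h5, h6⟩ := exists_lift π (A := zpowers a) (lfs_le G n) c.sG c.copA hH
    (by rwa [map_lfs]) (by rw [MonoidHom.map_zpowers]; exact zpowers_le.2 hA)
  rw [MonoidHom.map_zpowers] at h5
  exact ⟨S, h1, h2, h3 (mem_zpowers a), h4, fun m => by rw [map_lfs]; exact lfs_mono h5 m, h6⟩

variable {k : Type u} [Field k] {V : Type v} [AddCommGroup V] [Module k V]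
  {ρ : Γ →* Module.End k V} [IsAlgClosed k] [FiniteDimensional k V]

theorem step0 (hρ : Function.Injective ρ) (hpk : (p : k) ≠ 0) (h : St0 k' (G.map π) (π a) n) :
    St0 k G a (n + 1) ∨ St1 ρ G a (n + 1) := by
  obtain ⟨q, P', hq, hP', hqk, hP0, hP1, hP2⟩ := h
  have := Fact.mk hq
  have := Fact.mk c.pp
  have := c.nG
  have := c.nN
  have := c.nT
  have hqp : q ≠ p := by rintro rfl; exact hqk c.char
  have hP'D : P' ≤ Dn (G.map π) (π a) P' := hP1.trans (lfs_le _ _)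
  obtain ⟨S, hSY, hS, haS, hSP, hD, hmax⟩ := c.lift hP'
    (hP1.trans (lfs_mono (inf_le_left.trans inf_le_left) n))
    (centralizer_le_normalizer _ fun x hx => ((hP'D hx).1.2 _ (mem_zpowers _)).symm)
  set A := zpowers a with hA
  set D := Dn G a S with hDdef
  have hDG : D ≤ G := inf_le_left.trans inf_le_left
  have hDA : D ≤ centralizer (A : Set Γ) := inf_le_left.trans inf_le_right
  set X := S ⊓ lfs D n with hX
  have hXD : X ≤ D := inf_le_right.trans (lfs_le _ _)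
  have hXq : IsPGroup q X := hS.to_le inf_le_left
  have hDX : D ≤ normalizer (X : Set Γ) := fun x hx => inf_normalizer_le_normalizer_inf
    ⟨hx.2, normalizer_le_normalizer_lfs D n (le_normalizer hx)⟩
  have hXP : X.map π = P' := by
    refine le_antisymm ((map_mono inf_le_left).trans hSP.le) ?_
    obtain ⟨U, h1, h2, h3⟩ := exists_lift_isPGroup π (hP1.trans (hD n)) hP'
    exact h3.ge.trans (map_mono (le_inf (hmax U (h1.trans (lfs_mono hDG n)) h2 h3.le
      ((h1.trans (lfs_le _ _)).trans inf_le_right)) h1))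
  have hXY : X ≤ lfs G n := inf_le_left.trans hSY
  have hXp := coprime_card_of_isPGroup_of_ne hq c.pp hqp hXq
  have hXN := Cop.coprime_card_of_isPGroup hXp c.pN
  have hNk := card_ne_zero_of_isPGroup c.pN hpk
  by_cases hc : ⁅N ⊓ centralizer (A : Set Γ), X⁆ = ⊥
  swap
  · left
    have hDB : D ≤ normalizer ((N ⊓ centralizer (A : Set Γ) : Subgroup Γ) : Set Γ) :=
      Cop.le_normalizer_inf_centralizer le_normalizer_of_normal
        (hDA.trans (centralizer_le_normalizer _))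
    have h1 := Cop.commutator_le_left_of_le_normalizer (hXD.trans hDB)
    have h2 := Cop.commutator_commutator_eq (hXD.trans hDB)
      (hXN.coprime_dvd_right (card_dvd_of_le inf_le_left))
    have h3 := Cop.le_normalizer_commutator hDB hDX
    set P := ⁅N ⊓ centralizer (A : Set Γ), X⁆
    have h4 : X ≤ lfs (Dn G a P) n := inf_le_right.trans (lfs_mono (le_inf inf_le_left h3) n)
    have h5 : P ≤ Dn G a P := le_inf (h1.trans (inf_le_inf_right _ c.NG)) le_normalizer
    exact ⟨p, P, c.pp, c.pN.to_le (h1.trans inf_le_left), hpk, hc, le_lfs_succ h5 h4 h2.ge,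
      fun _ => h2.ge.trans (commutator_mono le_rfl h4)⟩
  right
  have hH0 : ⁅N, X⁆ ≠ ⊥ := fun h => hP0 (by
    rw [← hXP, Subgroup.map_eq_bot_iff]
    exact fun x hx => c.ker_iff.2 fun m hm => by
      rw [comm_mem_iff, mem_bot.1 (h.le (commutator_mem_commutator hm hx))]; exact one_mem _)
  have ha1 : a ≠ 1 := by
    rintro rfl
    refine hH0 (eq_bot_iff.2 ((commutator_mono (le_inf le_rfl fun x _ => ?_) le_rfl).trans hc.le))
    exact mem_centralizer_zpowers_iff.2 (Commute.one_left x)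
  have hHN : ⁅N, X⁆ ≤ N := commutator_le_left _ _
  have hHX := Cop.commutator_commutator_eq (G := N) (A := X) le_normalizer_of_normal hXN
  have hDH := Cop.le_normalizer_commutator (G := N) le_normalizer_of_normal hDX
  have haH : A ≤ normalizer ((⁅N, X⁆ : Subgroup Γ) : Set Γ) :=
    Cop.le_normalizer_commutator le_normalizer_of_normal
      ((le_centralizer_iff.1 (hXD.trans hDA)).trans (centralizer_le_normalizer _))
  set H := ⁅N, X⁆ with hH
  have hHp := c.pN.to_le hHN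
  have hXc : X ≤ centralizer ((H ⊓ centralizer (A : Set Γ) : Subgroup Γ) : Set Γ) :=
    (Cop.commutator_eq_bot_iff_le_centralizer'.1 hc).trans
      (centralizer_le (inf_le_inf_right _ hHN))
  have hXH := hXN.coprime_dvd_right (card_dvd_of_le hHN)
  have hfix : H ⊓ centralizer (A : Set Γ) ≤ ⁅H, H⁆ :=
    (le_inf inf_le_left (le_centralizer_iff.1 hXc)).trans
      (Cop.inf_centralizer_le_commutator_of_eq (hXD.trans hDH) hXH hHX)
  have hHk := natCast_ne_zero_of_dvd (card_dvd_of_le hHN) hNk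
  have hcA := c.copA.coprime_dvd_right (card_dvd_of_le (hHN.trans c.NG))
  have B : BrData k H X a p := ⟨c.pp, hHp, hHk,
    (((commutator_mono hHN hHN).trans c.comm).trans c.cen).trans (centralizer_le hHN), c.ap ha1,
    haH (mem_zpowers a), c.copa.coprime_dvd_right (card_dvd_of_le (hHN.trans c.NG)), hfix,
    hXD.trans hDH, hXD.trans hDA, hXc, hXH,
    c.copa.symm.coprime_dvd_left (card_dvd_of_le (hXD.trans hDG)), hHX⟩
  have hHA : ⁅H, A⁆ = H := Cop.eq_of_sup_frattini_eq (Cop.commutator_le_left_of_le_normalizer haH)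
    ((Cop.commutator_sup_centralizer haH hcA (Or.inl inferInstance)).ge.trans
      (sup_le_sup_left (hfix.trans (Cop.commutator_le_frattini_map hHp)) _))
  have hDD : D ≤ Dn G a H := le_inf inf_le_left hDH
  have hnt : ∃ h ∈ H, ρ h ≠ 1 := by
    obtain ⟨⟨h, hh⟩, h1⟩ := ne_bot_iff_exists_ne_one.1 hH0
    exact ⟨h, hh, fun h2 => h1 (Subtype.ext (hρ (h2.trans (map_one ρ).symm)))⟩
  refine ⟨p, H, c.pp, hHp, hpk, hHN.trans c.NY, haH (mem_zpowers a), hHA, ?_⟩
  by_cases hb : H ⊓ centralizer (A : Set Γ) ⊓ lfs (Dn G a H) (n - 1) = ⊥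
  swap
  · left
    obtain ⟨⟨z, hz⟩, h1⟩ := ne_bot_iff_exists_ne_one.1 hb
    have hzk : (Nat.card (zpowers z) : k) ≠ 0 :=
      natCast_ne_zero_of_dvd (card_dvd_of_le (zpowers_le.2 hz.1.1)) hHk
    obtain ⟨v, h2, h3⟩ := B.branch1 (ρ := ρ) hz.1
      fun h2 => h1 (Subtype.ext (hρ (h2.trans (map_one ρ).symm)))
    refine ⟨z, hz.2, by rwa [← Nat.card_zpowers], Mod1.mono (mod1_of (Z := ⊥) hHk (by simp)
      (by rwa [← Nat.card_zpowers]) (haH (mem_zpowers a)) (mem_normalizer_bot _)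
      (commute_of_mem_centralizer_zpowers hz.1.2).symm (le_normalizer hz.1.1) (mem_normalizer_bot _)
      (fun x _ => mem_normalizer_bot x)
      (Cop.commutator_eq_bot_iff_le_centralizer'.2 (zpowers_le.2 (B.cl (hfix hz.1)))).le
      ⟨v, fun z hz => by rw [mem_bot.1 hz]; simp,
        normOp_eq_zero_of_le (zpowers_le.2 hz.1.1) hzk h2, h2, h3⟩) fun _ => trivial⟩
  have hCD : H ⊓ centralizer (A : Set Γ) ≤ Dn G a H :=
    le_inf (inf_le_inf_right _ (hHN.trans c.NG)) (inf_le_left.trans le_normalizer)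
  rcases Nat.eq_zero_or_pos n with rfl | hn
  · left
    refine ⟨1, one_mem _, by simp, Mod1.mono (mod1_one hHk (haH (mem_zpowers a)) ?_) (by omega)⟩
    by_contra hcon
    push Not at hcon
    exact ker_normOp_ne_bot hnt (frob_eq_bot (c.ap ha1) (haH (mem_zpowers a))
      (eq_bot_iff.2 ((le_inf le_rfl hCD).trans hb.le)) hHk (le_normalizer.trans stab_ker_normOp)
      (stab_ker_normOp (haH (mem_zpowers a))) (fun v hv => hv) hcon)
  right
  have hLD : lfs D (n - 1) ≤ D := lfs_le _ _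
  obtain ⟨v, h1, h2⟩ := B.branch2 hXq hnt (L := lfs D (n - 1)) (hLD.trans hDH) (hLD.trans hDX)
    (hLD.trans hDA) (by
      rw [← Cop.commutator_eq_bot_iff_le_centralizer', eq_bot_iff, ← hb]
      exact le_inf (Cop.commutator_le_left_of_le_normalizer (Cop.le_normalizer_inf_centralizer
        (hLD.trans hDH) ((hLD.trans hDA).trans (centralizer_le_normalizer _))))
        (le_lfs_of_commutator hCD (lfs_mono hDD _))) (by
      refine (le_sup_ker (π := π) (Cop.commutator_le_left_of_le_normalizer (hLD.trans hDX)) ?_).trans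
        (sup_le_sup_left (le_inf inf_le_left ((c.ker_cen hXY hXp).trans (centralizer_le hHN))) _)
      rw [Subgroup.map_commutator, hXP]
      exact (hP2 hn).trans (commutator_mono le_rfl (hD _)))
  exact ⟨X, inf_le_right.trans (lfs_mono hDD n), hHX, _, rat_ker hHk,
    le_normalizer.trans stab_ker_normOp, stab_ker_normOp (haH (mem_zpowers a)),
    (hXD.trans hDH).trans stab_ker_normOp, fun v hv h => eq_zero_of_mem_ker_normOp hHk hv h,
    v, h1, h2⟩

theorem finish (hpk : (p : k) ≠ 0) {K : Subgroup Γ} [K.Normal] (hKN : K ≤ N) {d : Γ} (hdN : d ∈ N)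
    (hd : d ∈ lfs (G ⊓ centralizer ((zpowers a : Subgroup Γ) : Set Γ)) (n - 1))
    (h : Mod1 ρ ⁅K, zpowers a⁆ a d True) : St1 ρ G a (n + 1) := by
  have := Fact.mk c.pp
  have h1 : ⁅K, zpowers a⁆ ≤ N := (commutator_le_left _ _).trans hKN
  refine ⟨p, _, c.pp, c.pN.to_le h1, hpk, h1.trans c.NY,
    normalizer_commutator_ge_right _ _ (mem_zpowers a), Cop.commutator_commutator_eq
      le_normalizer_of_normal (c.copA.coprime_dvd_right (card_dvd_of_le (hKN.trans c.NG))),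
    Or.inl ⟨d, lfs_mono (le_inf le_rfl (Cop.le_normalizer_commutator le_normalizer_of_normal
      (inf_le_right.trans (centralizer_le_normalizer _)))) _ hd, ?_, h.mono fun _ => trivial⟩⟩
  exact natCast_ne_zero_of_dvd (orderOf_dvd_natCard N hdN) (card_ne_zero_of_isPGroup c.pN hpk)

omit [IsAlgClosed k] [FiniteDimensional k V] in
theorem exists_crit_data (hpk : (p : k) ≠ 0) {q : ℕ} [hq : Fact q.Prime] (hqp : q ≠ p)
    {S : Subgroup Γ} (hSY : S ≤ lfs G n) (hS : IsPGroup q S) (haS : a ∈ normalizer (S : Set Γ))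
    (hgen : ⁅S.map π, zpowers (π a)⁆ = S.map π) {Mk : Submodule k' W} (hR : Rat σ Mk)
    (h1 : S.map π ≤ stabSub σ Mk) (h2 : π a ∈ stabSub σ Mk)
    (h3 : ∀ v ∈ Mk, (∀ h ∈ S.map π, σ h v = v) → v = 0) (h4 : Mk ≠ ⊥) :
    ∃ M : Subgroup Γ, Crit k N T ⁅S, zpowers a⁆ M a p q ∧ (∀ m, m ∈ M ↔ m ∈ N ∧ ι m ∈ Mk) ∧
      (∀ y, π y ∈ stabSub σ Mk → y ∈ normalizer (M : Set Γ)) ∧
      ∀ φ : Module.End k' W, (∃ v ∈ Mk, φ (normOp σ (zpowers (π a)) v) ≠ 0) →
        ∃ m ∈ ⁅M, ⁅S, zpowers a⁆⁆ ⊓ centralizer ((zpowers a : Subgroup Γ) : Set Γ),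
          φ (ι m) ≠ 0 := by
  have := Fact.mk c.pp
  have := c.nN
  have := c.nT
  have S' := c.sec
  let M : Subgroup Γ :=
    { carrier := {m | m ∈ N ∧ ι m ∈ Mk}
      one_mem' := ⟨one_mem _, by rw [S'.map_one]; exact zero_mem _⟩
      mul_mem' := fun {x y} hx hy => ⟨mul_mem hx.1 hy.1, by
        rw [S'.map_mul x hx.1 y hy.1]; exact add_mem hx.2 hy.2⟩
      inv_mem' := fun {x} hx => ⟨inv_mem hx.1, by rw [S'.map_inv hx.1]; exact neg_mem hx.2⟩ }
  have hM : ∀ y, π y ∈ stabSub σ Mk → y ∈ normalizer (M : Set Γ) := fun y hy =>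
    mem_normalizer_of_conj_mem fun m hm => ⟨S'.conj_mem y hm.1, by
      have := S'.conj y m hm.1
      rw [MonoidHom.id_apply] at this
      rw [this]; exact hy _ hm.2⟩
  set A := zpowers a with hA
  have hAS : A ≤ normalizer (S : Set Γ) := zpowers_le.2 haS
  have hHS : ⁅S, A⁆ ≤ S := Cop.commutator_le_left_of_le_normalizer hAS
  have hSG := hSY.trans (lfs_le G n)
  have hmap : (⁅S, A⁆ : Subgroup Γ).map π = S.map π := by
    rw [Subgroup.map_commutator, hA, MonoidHom.map_zpowers, hgen]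
  have ha1 : a ≠ 1 := by
    rintro rfl
    rw [map_one, zpowers_one_eq_bot, commutator_bot_right] at hgen
    exact h4 (eq_bot_iff.2 fun v hv => h3 v hv fun h hh => by rw [mem_bot.1 (hgen.ge hh)]; simp)
  have hHq := hS.to_le hHS
  have C : Crit k N T ⁅S, A⁆ M a p q := ⟨c.pp, c.pN, card_ne_zero_of_isPGroup c.pN hpk, c.comm,
    c.pow, c.cen, c.ap ha1, le_normalizer_of_normal (mem_top a), le_normalizer_of_normal (mem_top a),
    normalizer_commutator_ge_right _ _ (mem_zpowers a), hM a h2,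
    c.copa.coprime_dvd_right (by
      obtain ⟨v, hv, hv0⟩ := (Submodule.ne_bot_iff _).1 h4
      refine ((c.pN.card_eq_or_dvd).resolve_left fun h => hv0 ?_).trans (card_dvd_of_le c.NG)
      have h5 := S'.span
      rw [card_eq_one.1 h, coe_bot, Set.image_singleton, S'.map_one, Submodule.span_zero_singleton]
        at h5
      exact (Submodule.mem_bot k').1 (h5.ge Submodule.mem_top)),
    hq.out, hHq, hqp, c.copa.coprime_dvd_right (card_dvd_of_le (hHS.trans hSG)),
    le_normalizer_of_normal,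
    c.cenT (hHS.trans hSY) (coprime_card_of_isPGroup_of_ne hq.out c.pp hqp hHq),
    fun y hy => hM y (h1 (mem_map_of_mem π (hHS hy))),
    Cop.commutator_commutator_eq hAS (c.copA.coprime_dvd_right (card_dvd_of_le hSG)),
    fun t ht => ⟨S'.le ht, by rw [(S'.eq_zero_iff t (S'.le ht)).2 ht]; exact zero_mem _⟩,
    fun m hm => hm.1, fun m hm => (S'.eq_zero_iff m hm.1.1).1 (h3 _ hm.1.2 fun h hh => by
      obtain ⟨g, hg, rfl⟩ := hmap.ge hh
      have := S'.conj g m hm.1.1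
      rw [MonoidHom.id_apply, hm.2 g hg, mul_inv_cancel_right] at this
      exact this.symm)⟩
  refine ⟨M, C, fun m => Iff.rfl, hM, fun φ ⟨v, hv, hφ⟩ => ?_⟩
  obtain ⟨E, hE, hEM⟩ := hR
  obtain ⟨m, hm, h5⟩ : ∃ m ∈ N, (φ * (normOp σ (zpowers (π a)) * E)) (ι m) ≠ 0 := by
    by_contra hcon
    push Not at hcon
    obtain ⟨w, rfl⟩ := hEM.ge hv
    have h5 : φ * (normOp σ (zpowers (π a)) * E) = 0 := S'.ext hcon
    exact hφ (congrArg (fun T : Module.End k' W => T w) h5)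
  obtain ⟨m₀, hm₀, h6⟩ := exists_eq_of_closure S' c.surj (mul_mem (normOp_mem_closure _) hE) m hm
  have h7 : m₀ ∈ M := ⟨hm₀, by rw [h6]; exact normOp_mem (zpowers_le.2 h2) (hEM.le ⟨_, rfl⟩)⟩
  obtain ⟨u, hu, t, ht, rfl⟩ := Cop.exists_commutator_mul_centralizer C.HM
    (C.copHN.coprime_dvd_right (card_dvd_of_le C.MN)) (Or.inr (isSolvable_of_le C.solv C.MN)) h7
  have hQN := (Cop.commutator_le_left_of_le_normalizer C.HM).trans C.MN
  have hAQ := Cop.le_normalizer_commutator (zpowers_le.2 C.aM) (zpowers_le.2 C.aH)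
  have htT := C.fixM ht
  rw [S'.map_mul u (hQN hu) t (S'.le htT), (S'.eq_zero_iff t (S'.le htT)).2 htT, add_zero] at h6
  obtain ⟨t', ht', u', hu', rfl⟩ := Cop.exists_mul_centralizer_of_commutator_mem (A := A)
    (N := ⁅M, ⁅S, A⁆⁆ ⊓ T) (fun x hx => inf_normalizer_le_normalizer_inf
      ⟨hAQ hx, le_normalizer_of_normal (mem_top x)⟩)
    (C.copA.coprime_dvd_right (card_dvd_of_le (inf_le_left.trans hQN))) (Or.inl inferInstance)
    (g := u) fun b hb => ⟨Cop.commutator_le_left_of_le_normalizer hAQ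
      (commutator_mem_commutator hu hb), comm_mem_iff.1 ((S'.eq_zero_iff _
        (S'.commutator_mem b (hQN hu))).1 (by
          rw [S'.map_commutator b (hQN hu), h6, sub_eq_zero]
          exact normOp_fixed ((MonoidHom.map_zpowers π a).le (mem_map_of_mem π hb)) _))⟩
  have hu'Q := (Subgroup.mul_mem_cancel_left _ ht'.1).1 hu
  rw [S'.map_mul t' (S'.le ht'.2) u' (hQN hu'Q), (S'.eq_zero_iff t' (S'.le ht'.2)).2 ht'.2,
    zero_add] at h6
  exact ⟨u', ⟨hu'Q, hu'⟩, by rw [h6]; exact h5⟩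

theorem finish2 (hρ : Function.Injective ρ) (hpk : (p : k) ≠ 0) {H M J₁ : Subgroup Γ} {q : ℕ}
    (C : Crit k N T H M a p q)
    (hJ : J₁ ≤ ⁅M, H⁆ ⊓ centralizer ((zpowers a : Subgroup Γ) : Set Γ))
    (hJL : J₁ ≤ lfs (G ⊓ centralizer ((zpowers a : Subgroup Γ) : Set Γ)) (n - 1)) (hJT : ¬ J₁ ≤ T)
    (hcase : N ≤ centralizer (N : Set Γ) →
      ⁅M, H⁆ ⊓ centralizer ((zpowers a : Subgroup Γ) : Set Γ) ≤ J₁ ∨
      ∃ X : Subgroup Γ, X ≤ normalizer (H : Set Γ) ∧ X ≤ normalizer (J₁ : Set Γ) ∧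
        X ≤ normalizer (M : Set Γ) ∧
        X ≤ centralizer ((zpowers a : Subgroup Γ) : Set Γ) ∧ (Nat.card X).Coprime (orderOf a) ∧
        H ≤ ⁅H, X⁆ ⊔ H ⊓ centralizer (N : Set Γ) ∧
        ⁅⁅M, H⁆ ⊓ centralizer ((zpowers a : Subgroup Γ) : Set Γ), X⁆ ≤ J₁) :
    St1 ρ G a (n + 1) := by
  have := c.nN
  have := c.nT
  have hJM := hJ.trans (inf_le_left.trans (Cop.commutator_le_left_of_le_normalizer C.HM))
  by_cases hab : N ≤ centralizer (N : Set Γ)
  · obtain ⟨d, hd, h⟩ := C.ab hρ hab hJ (fun h => hJT (h.le.trans bot_le)) (hcase hab)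
    exact c.finish hpk le_rfl (C.MN (hJM hd)) (hJL hd) h
  · obtain ⟨d, hd, hdT⟩ := SetLike.not_le_iff_exists.1 hJT
    have h1 := (c.min (N ⊓ centralizer (N : Set Γ)) inferInstance inf_le_left).resolve_left
      fun h => hab (h.ge.trans inf_le_right)
    rcases C.na hρ (hJM hd) (commute_of_mem_centralizer_zpowers (hJ hd).2).symm
      fun h => hdT (h1 ⟨C.MN (hJM hd), h⟩) with h | h
    · exact c.finish hpk C.TN (C.MN (hJM hd)) (hJL hd) h
    · exact c.finish hpk le_rfl (C.MN (hJM hd)) (hJL hd) h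

theorem step1 (hρ : Function.Injective ρ) (hpk : (p : k) ≠ 0) (h : St1 σ (G.map π) (π a) n) :
    St1 ρ G a (n + 1) := by
  obtain ⟨q, H', hq, hH', hqk, hH'Y, haH', hgen, hcase⟩ := h
  have := Fact.mk hq
  have := Fact.mk c.pp
  have := c.nG
  have := c.nN
  have := c.nT
  have S' := c.sec
  have hqp : q ≠ p := by rintro rfl; exact hqk c.char
  obtain ⟨S, hSY, hS, haS, rfl, hD, -⟩ := c.lift hH' hH'Y haH'
  set A := zpowers a with hA
  set D := Dn G a S with hDdef
  have hDC : D ≤ G ⊓ centralizer (A : Set Γ) := inf_le_left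
  have hDA : D ≤ centralizer (A : Set Γ) := hDC.trans inf_le_right
  have hDH : D ≤ normalizer ((⁅S, A⁆ : Subgroup Γ) : Set Γ) :=
    Cop.le_normalizer_commutator inf_le_right (hDA.trans (centralizer_le_normalizer _))
  rcases hcase with ⟨d', hd', hdk, Mk, hR, h1, h2, h3, h4, h5, v, hv, hv0⟩ |
    ⟨X', hX', hHX', Mk, hR, h1, h2, h3, h4, v, hv, x', hx', hv0⟩
  · obtain ⟨M, C, hM, hM', h6⟩ := c.exists_crit_data hpk hqp hSY hS haS hgen hR h1 h2 h4
      fun h => hv0 (by rw [(Submodule.mem_bot k').1 (h.le hv), map_zero])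
    obtain ⟨m, hm, hm0⟩ := h6 1 ⟨v, hv, hv0⟩
    have hQN := (Cop.commutator_le_left_of_le_normalizer C.HM).trans C.MN
    set J := ⁅M, ⁅S, A⁆⁆ ⊓ centralizer (A : Set Γ) with hJ
    have hJC : J ≤ G ⊓ centralizer (A : Set Γ) := inf_le_inf_right _ (hQN.trans c.NG)
    have key : J ≤ J ⊓ lfs (G ⊓ centralizer (A : Set Γ)) (n - 1) ⊔ J ⊓ T := by
      by_cases hn : 2 ≤ n
      swap
      · rw [show n - 1 = 0 by omega]
        exact (le_inf le_rfl hJC).trans le_sup_left
      obtain ⟨d₁, hd₁, rfl⟩ := hD _ hd'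
      obtain ⟨d, hd, h7, h8⟩ := exists_lift_isPiNum π (π := {p}ᶜ) d₁
        ((isPiNum_compl_singleton_iff c.pp).2 (c.coprime_of_ne hdk))
      rw [← h7] at h3 h5
      have hdD := zpowers_le.2 (zpowers_le.2 hd₁ hd)
      have hdD' := hdD.trans (lfs_le _ _)
      have hdJ : zpowers d ≤ normalizer (J : Set Γ) := Cop.le_normalizer_inf_centralizer
        (Cop.le_normalizer_commutator (zpowers_le.2 (hM' d h3)) (hdD'.trans hDH))
        ((hdD'.trans hDA).trans (centralizer_le_normalizer _))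
      have hcop := Cop.coprime_card_of_isPGroup (A := zpowers d)
        (by rw [Nat.card_zpowers]; exact (isPiNum_compl_singleton_iff c.pp).1 h8)
        (c.pN.to_le (inf_le_left.trans hQN : J ≤ N))
      have h9 := Cop.commutator_le_left_of_le_normalizer hdJ
      refine (Cop.commutator_sup_centralizer hdJ hcop (Or.inl inferInstance)).ge.trans
        (sup_le_sup (le_inf h9 ?_) (le_inf inf_le_left fun x hx => ?_))
      · rw [show n - 1 = n - 2 + 1 by omega]
        exact le_lfs_succ (h9.trans hJC) (hdD.trans (lfs_mono hDC _))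
          (Cop.commutator_commutator_eq hdJ hcop).ge
      · have h10 := (hM x).1 (Cop.commutator_le_left_of_le_normalizer C.HM hx.1.1)
        refine (S'.eq_zero_iff x h10.1).1 (h5 hn _ h10.2 ?_)
        have := S'.conj d x h10.1
        rw [MonoidHom.id_apply, hx.2 d (mem_zpowers d), mul_inv_cancel_right] at this
        exact this.symm
    refine c.finish2 hρ hpk C (J₁ := J ⊓ lfs (G ⊓ centralizer (A : Set Γ)) (n - 1)) inf_le_left
      inf_le_right (fun h => hm0 ((S'.eq_zero_iff m (hQN hm.1)).2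
        (sup_le h inf_le_right (key hm)))) fun hab => Or.inl (key.trans (sup_le le_rfl ?_))
    refine le_trans ?_ ((Cop.commutator_inf_centralizer_eq_bot C.HM
      (C.copHN.coprime_dvd_right (card_dvd_of_le C.MN))
      ⟨⟨fun x y => Subtype.ext (hab (C.MN y.2) x (C.MN x.2))⟩⟩).le.trans bot_le)
    exact inf_le_inf inf_le_left (le_centralizer_iff.1 C.HT)
  · obtain ⟨M, C, hM, hM', h6⟩ := c.exists_crit_data hpk hqp hSY hS haS hgen hR h1 h2 h4
      fun h => hv0 (by rw [(Submodule.mem_bot k').1 (h.le hv), map_zero, map_zero])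
    obtain ⟨m, hm, hm0⟩ := h6 (σ x' - 1) ⟨v, hv, sub_ne_zero.2 hv0⟩
    have hQN := (Cop.commutator_le_left_of_le_normalizer C.HM).trans C.MN
    set J := ⁅M, ⁅S, A⁆⁆ ⊓ centralizer (A : Set Γ) with hJ
    have hJC : J ≤ G ⊓ centralizer (A : Set Γ) := inf_le_inf_right _ (hQN.trans c.NG)
    set X := lfs D (n - 1) ⊓ X'.comap π with hX
    have hXX : X' ≤ X.map π := fun x hx => by
      obtain ⟨y, hy, rfl⟩ := hD _ (hX' hx)
      exact ⟨y, ⟨hy, hx⟩, rfl⟩
    have hXD : X ≤ D := inf_le_left.trans (lfs_le _ _)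
    have hXM : X ≤ normalizer (M : Set Γ) := fun y hy => hM' y (h3 hy.2)
    have hXJ : X ≤ normalizer (J : Set Γ) := Cop.le_normalizer_inf_centralizer
      (Cop.le_normalizer_commutator hXM (hXD.trans hDH))
      ((hXD.trans hDA).trans (centralizer_le_normalizer _))
    obtain ⟨x, hx, rfl⟩ := hXX hx'
    refine c.finish2 hρ hpk C (J₁ := ⁅J, X⁆) (Cop.commutator_le_left_of_le_normalizer hXJ)
      (le_lfs_of_commutator hJC (inf_le_left.trans (lfs_mono hDC _))) (fun h => hm0 ?_)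
      fun _ => Or.inr ⟨X, hXD.trans hDH, normalizer_commutator_ge_right _ _, hXM, hXD.trans hDA,
        c.copa.symm.coprime_dvd_left (card_dvd_of_le (hXD.trans (hDC.trans inf_le_left))), ?_, le_rfl⟩
    · exact (S'.map_commutator x (hQN hm.1)).symm.trans ((S'.eq_zero_iff _
        (S'.commutator_mem x (hQN hm.1))).2 (comm_mem_iff.1 (h (commutator_mem_commutator hm hx))))
    · refine (le_sup_ker (π := π) (Cop.commutator_le_left_of_le_normalizer (hXD.trans hDH)) ?_).trans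
        (sup_le_sup_left (le_inf inf_le_left (c.ker_cen
          ((Cop.commutator_le_left_of_le_normalizer (zpowers_le.2 haS)).trans hSY) C.copHp)) _)
      rw [Subgroup.map_commutator (⁅S, A⁆), Subgroup.map_commutator, hA, MonoidHom.map_zpowers, hgen]
      exact hHX'.ge.trans (commutator_mono le_rfl hXX)

end Ctx

end CfsgLib.H6T
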